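import Cfsg.Agent.Suzuki.SLInv.Rank

/-! # Assembling involution classes -/

set_option autoImplicit false
set_option linter.unusedSectionVars false

universe u

namespace Cfsg.Agent.Suzuki.SLInv

open Cfsg.Lie Cfsg.Agent.Chev

theorem two_dvd_card (F : Type u) [Field F] [Fintype F] [CharP F 2] : 2 ∣ Fintype.card F :=
  (CharP.cast_eq_zero_iff F 2 _).1 (FiniteField.cast_card_eq_zero F)

theorem not_dvd_pow_pred {q d : ℕ} (hq : 2 ∣ q) (h0 : 0 < q) (hd : d ≠ 0) : ¬ 2 ∣ q ^ d - 1 := by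
  have h1 : 2 ∣ q ^ d := dvd_pow hq hd
  have h2 : 0 < q ^ d := pow_pos h0 _
  omega

variable {D : ChevalleyDatum} {T : FTab} (H : AllOK D T) {F : Type u} [Field F] [CharP F 2]

theorem order_two {w : List ℕ} (h1 : (W H w : GL D.Idx F) * W H w = 1) (h2 : (W H w : GL D.Idx F) ≠ 1) :
    orderOf (W H w : GL D.Idx F) = 2 := by
  have : Fact (Nat.Prime 2) := ⟨Nat.prime_two⟩
  exact orderOf_eq_prime (by rw [pow_two]; exact h1) h2

theorem val_one_word (a : ℕ) : ((W H [a] : GL D.Idx F) : Matrix D.Idx D.Idx F) = D.x F a 1 := by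
  rw [W_cons, W_nil, mul_one, Cert.coe_xu]

theorem val_cons_word (a : ℕ) (w : List ℕ) :
    ((W H (a :: w) : GL D.Idx F) : Matrix D.Idx D.Idx F) = D.x F a 1 * (W H w : GL D.Idx F) := by
  rw [W_cons, Units.val_mul, Cert.coe_xu]

end Cfsg.Agent.Suzuki.SLInv
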