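import Cfsg.Agent.Chev.Unipotent
import Cfsg.Agent.Chev.CharTwoWords

/-! # Simply laced data in characteristic two: commutation rules -/

set_option autoImplicit false
set_option linter.unusedSectionVars false

universe u

namespace Cfsg.Agent.Suzuki.SLInv

open Cfsg.Lie Cfsg.Agent.Chev

variable {D : ChevalleyDatum}

/-- The pairing of two roots. -/
def ip (C : Cert.{u} D) (r s : ℕ) : ℤ := ∑ k ∈ Finset.range D.rank, C.coef r k * D.cartan k s

/-- `c` is the sum of `r` and `s`. -/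
def IsSum (C : Cert.{u} D) (r s c : ℕ) : Prop :=
  c < D.nroots ∧ ∀ j < D.rank, C.coef c j = C.coef r j + C.coef s j

/-- The properties of a simply laced root system that are used. -/
structure SL (C : Cert.{u} D) : Prop where
  symm : ∀ r < D.nroots, ∀ s < D.nroots, ip C r s = ip C s r
  self : ∀ r < D.nroots, ip C r r = 2
  bound : ∀ r < D.nroots, ∀ s < D.nroots, s ≠ r → s ≠ D.neg r → -1 ≤ ip C r s ∧ ip C r s ≤ 1
  comm0 : ∀ r < D.nroots, ∀ s < D.nroots, s ≠ D.neg r → ip C r s ≠ -1 → D.commTerms r s = []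
  comm1 : ∀ r < D.nroots, ∀ s < D.nroots, ip C r s = -1 →
    ∃ c k, D.commTerms r s = [(c, k, 1, 1)] ∧ k % 2 ≠ 0

variable {C : Cert.{u} D}

theorem IsSum.ip_eq {r s c : ℕ} (h : IsSum C r s c) (x : ℕ) : ip C c x = ip C r x + ip C s x := by
  rw [ip, ip, ip, ← Finset.sum_add_distrib]
  exact Finset.sum_congr rfl fun k hk => by rw [h.2 k (Finset.mem_range.1 hk), add_mul]

theorem IsSum.ht_eq {r s c : ℕ} (h : IsSum C r s c) : C.ht c = C.ht r + C.ht s := by
  rw [Cert.ht, Cert.ht, Cert.ht, ← Finset.sum_add_distrib]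
  exact Finset.sum_congr rfl fun k hk => h.2 k (Finset.mem_range.1 hk)

theorem IsSum.unique {r s c c' : ℕ} (h : IsSum C r s c) (h' : IsSum C r s c') : c = c' :=
  C.coef_inj c h.1 c' h'.1 fun j hj => by rw [h.2 j hj, h'.2 j hj]

theorem IsSum.unique_left {r r' s c : ℕ} (hr : r < D.nroots) (hr' : r' < D.nroots) (h : IsSum C r s c)
    (h' : IsSum C r' s c) : r = r' :=
  C.coef_inj r hr r' hr' fun j hj => by
    have := h.2 j hj; rw [h'.2 j hj] at this; omega

theorem ip_neg {r : ℕ} (hr : r < D.nroots) (x : ℕ) : ip C (D.neg r) x = - ip C r x := by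
  rw [ip, ip, ← Finset.sum_neg_distrib]
  exact Finset.sum_congr rfl fun k hk => by rw [C.coef_neg r hr k (Finset.mem_range.1 hk), neg_mul]

namespace SL

variable (H : SL C)
include H

theorem ip_neg_right {r s : ℕ} (hr : r < D.nroots) (hs : s < D.nroots) : ip C r (D.neg s) = - ip C r s := by
  rw [H.symm r hr _ (C.neg_lt s hs), ip_neg hs, H.symm s hs r hr]

theorem ip_neg_self {r : ℕ} (hr : r < D.nroots) : ip C r (D.neg r) = -2 := by
  rw [H.ip_neg_right hr hr, H.self r hr]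

theorem ne_of_ip {r s : ℕ} (hr : r < D.nroots) (h1 : ip C r s ≠ -2) : s ≠ D.neg r := fun e =>
  h1 (e ▸ H.ip_neg_self hr)

theorem ne_self {r s : ℕ} (hr : r < D.nroots) (h1 : ip C r s ≠ 2) : s ≠ r := fun e => h1 (e ▸ H.self r hr)

theorem ip_le_two {r s : ℕ} (hr : r < D.nroots) (hs : s < D.nroots) : ip C r s ≤ 2 := by
  by_cases h1 : s = r
  · rw [h1, H.self r hr]
  by_cases h2 : s = D.neg r
  · rw [h2, H.ip_neg_self hr]; norm_num
  linarith [(H.bound r hr s hs h1 h2).2]

theorem eq_of_ip_two {r s : ℕ} (hr : r < D.nroots) (hs : s < D.nroots) (h : ip C r s = 2) : s = r := by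
  by_contra h1
  by_cases h2 : s = D.neg r
  · rw [h2, H.ip_neg_self hr] at h; norm_num at h
  have := (H.bound r hr s hs h1 h2).2
  omega

theorem exists_sum {r s : ℕ} (hr : r < D.nroots) (hs : s < D.nroots) (h : ip C r s = -1) : ∃ c, IsSum C r s c := by
  obtain ⟨c, k, e, -⟩ := H.comm1 r hr s hs h
  have hm : (c, k, 1, 1) ∈ D.commTerms r s := e ▸ List.mem_singleton_self _
  refine ⟨c, C.commTerms_lt hr hs _ hm, fun j hj => ?_⟩
  have := (C.commTerms_coef hr hs _ hm).2.2 j hj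
  simpa using this

/-- The root `r - s`. -/
theorem exists_diff {r s : ℕ} (hr : r < D.nroots) (hs : s < D.nroots) (h : ip C r s = 1) : ∃ c, IsSum C s c r := by
  obtain ⟨c, hc⟩ := H.exists_sum hr (C.neg_lt s hs) (by rw [H.ip_neg_right hr hs, h])
  refine ⟨c, hr, fun j hj => ?_⟩
  have := hc.2 j hj
  rw [C.coef_neg s hs j hj] at this
  omega

variable {F : Type u} [Field F] [CharP F 2]

theorem sq_one (r : ℕ) (t : F) : C.xu r t * C.xu r t = 1 := by
  rw [C.xu_add, CharTwo.add_self_eq_zero, C.xu_zero]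

theorem inv_self (r : ℕ) (t : F) : (C.xu r t)⁻¹ = C.xu r t := inv_eq_of_mul_eq_one_right (SL.sq_one H r t)

theorem commute {r s : ℕ} (hr : r < D.nroots) (hs : s < D.nroots) (hn : s ≠ D.neg r) (h : ip C r s ≠ -1)
    (t v : F) : Commute (C.xu r t) (C.xu s v) := by
  by_cases he : s = r
  · subst he; show _ * _ = _ * _; rw [C.xu_add, C.xu_add, add_comm]
  have e := C.xu_comm hr hs he hn t v
  rw [ChevalleyDatum.commWord, H.comm0 r hr s hs hn h, List.map_nil] at e
  show _ * _ = _ * _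
  simpa [Cert.wu] using e.symm

theorem commute_orth {r s : ℕ} (hr : r < D.nroots) (hs : s < D.nroots) (h : ip C r s = 0) (t v : F) :
    Commute (C.xu r t) (C.xu s v) :=
  H.commute hr hs (H.ne_of_ip hr (by omega)) (by omega) t v

/-- Conjugation of a root element by another one. -/
theorem conj_sum {c a d : ℕ} (hc : c < D.nroots) (ha : a < D.nroots) (hd : IsSum C a c d) (h : ip C a c = -1)
    (s t : F) : C.xu c s * C.xu a t * C.xu c s = C.xu a t * C.xu d (s * t) := by
  have h' : ip C c a = -1 := by rw [H.symm c hc a ha, h]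
  have e := C.conj_xu hc ha (H.ne_self hc (by omega)) (H.ne_of_ip hc (by omega)) s t
  obtain ⟨d', k, ek, hk⟩ := H.comm1 c hc a ha h'
  have hm : (d', k, 1, 1) ∈ D.commTerms c a := ek ▸ List.mem_singleton_self _
  have hd' : IsSum C a c d' := ⟨C.commTerms_lt hc ha _ hm, fun j hj => by
    have := (C.commTerms_coef hc ha _ hm).2.2 j hj
    simp at this; omega⟩
  have hk1 : (k : F) = 1 := by
    have h0 : ((k - 1 : ℤ) : F) = 0 := (CharP.intCast_eq_zero_iff F 2 _).2 (by omega)
    simpa [sub_eq_zero] using h0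
  rw [SL.inv_self H] at e
  rw [e, ← hd'.unique hd, ChevalleyDatum.commWord, ek]
  simp [Cert.wu, hk1, CharTwo.neg_eq]

end SL

/-- The roots orthogonal to all of `Y`. -/
def Perp (C : Cert.{u} D) (Y : List ℕ) (r : ℕ) : Prop := r < D.nroots ∧ ∀ y ∈ Y, ip C r y = 0

/-- The positive roots orthogonal to all of `Y`. -/
def Pos (C : Cert.{u} D) (Y : List ℕ) (r : ℕ) : Prop := D.IsPosRoot r ∧ ∀ y ∈ Y, ip C r y = 0

theorem Pos.perp {Y : List ℕ} {r : ℕ} (h : Pos C Y r) : Perp C Y r := ⟨h.1.1, h.2⟩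

theorem perp_sum {Y : List ℕ} {r s c : ℕ} (h : IsSum C r s c) (hr : Perp C Y r) (hs : Perp C Y s) : Perp C Y c :=
  ⟨h.1, fun y hy => by rw [h.ip_eq, hr.2 y hy, hs.2 y hy, add_zero]⟩

theorem SL.pos_closed (H : SL C) (Y : List ℕ) : ClosedSet D (Pos C Y) := by
  refine ⟨fun r h => h.1, fun r s hr hs c hc => ⟨C.commTerms_pos hr.1 hs.1 c hc, fun y hy => ?_⟩⟩
  have hn : s ≠ D.neg r := fun e => C.not_pos_and_neg hs.1 (e ▸ C.negRoot_neg hr.1)
  by_cases h : ip C r s = -1
  · obtain ⟨d, k, e, -⟩ := H.comm1 r hr.1.1 s hs.1.1 h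
    rw [e, List.mem_singleton] at hc
    subst hc
    have hm : (d, k, 1, 1) ∈ D.commTerms r s := e ▸ List.mem_singleton_self _
    have hd : IsSum C r s d := ⟨C.commTerms_lt hr.1.1 hs.1.1 _ hm, fun j hj => by
      have := (C.commTerms_coef hr.1.1 hs.1.1 _ hm).2.2 j hj
      simpa using this⟩
    rw [hd.ip_eq, hr.2 y hy, hs.2 y hy, add_zero]
  · rw [H.comm0 r hr.1.1 s hs.1.1 hn h] at hc
    simp at hc

/-- The span of no root is trivial. -/
theorem _root_.Cfsg.Agent.Chev.Cert.span_empty' (C : Cert.{u} D) {F : Type u} [Field F] {P : ℕ → Prop}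
    (h : ∀ r, ¬ P r) : spanGroup D F P = ⊥ := eq_bot_iff.2 (C.span_le fun r hr _ => absurd hr (h r))

/-- A word lies in the span of the roots with non-zero parameters. -/
theorem _root_.Cfsg.Agent.Chev.Cert.wu_mem_span' (C : Cert.{u} D) {F : Type u} [Field F] {P : ℕ → Prop}
    (L : List (ℕ × F)) (h : ∀ p ∈ L, p.2 ≠ 0 → P p.1) : C.wu L ∈ spanGroup D F P := by
  induction L with
  | nil => simp [Cert.wu]
  | cons p L ih =>
    rw [C.wu_cons]
    refine mul_mem ?_ (ih fun q hq => h q (List.mem_cons_of_mem _ hq))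
    by_cases hp : p.2 = 0
    · rw [hp, C.xu_zero]; exact one_mem _
    · exact C.xu_mem_span (h p List.mem_cons_self hp) _

end Cfsg.Agent.Suzuki.SLInv
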