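import Cfsg.Agent.Suzuki.SLInv.Base
import Cfsg.Agent.Chev.CertOf

/-! # A kernel check that a datum is simply laced -/

set_option autoImplicit false

universe u

namespace Cfsg.Agent.Suzuki.SLInv

open Cfsg.Lie Cfsg.Agent.Chev

variable (T : FTab)

/-- The pairing plus ten. -/
noncomputable def ipC (r s : ℕ) : ℕ :=
  Nat.sub (Nat.add (sumBelow (fun k => Nat.mul (T.coefC r k) (T.cartC k s)) T.l) (Nat.add (Nat.mul 32 T.l) 10))
    (Nat.add (Nat.mul 4 (sumBelow (T.coefC r) T.l)) (Nat.mul 8 (sumBelow (fun k => T.cartC k s) T.l)))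

/-- The check at one pair of roots. -/
noncomputable def okPair (r s : ℕ) : Bool :=
  let v := ipC T r s
  bif Nat.beq s r then Nat.beq v 12
  else bif Nat.beq s (T.neg r) then Nat.beq v 8
  else Nat.ble 9 v && Nat.ble v 11 && Nat.beq v (ipC T s r) &&
    (let c := T.slot r s
     bif Nat.beq v 9 then !Nat.beq c 0 && Nat.blt c 4096 && Nat.beq (c / 512 % 8 % 2) 1 else Nat.beq c 0)

/-- The check. -/
noncomputable def okSL : Bool := allBelow (fun r => allBelow (okPair T r) T.n) T.n

variable {T} {D : ChevalleyDatum}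

theorem ipC_eq (H : AllOK D T) {r s : ℕ} (hr : r < D.nroots) (hs : s < D.nroots) (h8 : 8 ≤ ipC T r s) :
    ip (AllOK.cert.{u} H) r s = (ipC T r s : ℤ) - 10 := by
  have hn := H.basic.nroots_eq
  have hl := H.basic.rank_eq
  have e1 : ip (AllOK.cert.{u} H) r s = ∑ k ∈ Finset.range T.l, T.coefI r k * T.cartI k s := by
    rw [ip, hl]
    refine Finset.sum_congr rfl fun k hk => ?_
    rw [H.basic.cartan_eq (Finset.mem_range.1 hk) (hn ▸ hs)]
    rfl
  have hsub : (ipC T r s : ℤ) = ((sumBelow (fun k => T.coefC r k * T.cartC k s) T.l : ℕ) : ℤ) + (32 * T.l + 10) -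
      (4 * (sumBelow (T.coefC r) T.l : ℕ) + 8 * (sumBelow (fun k => T.cartC k s) T.l : ℕ)) := by
    have : ipC T r s = sumBelow (fun k => T.coefC r k * T.cartC k s) T.l + (32 * T.l + 10) -
        (4 * sumBelow (T.coefC r) T.l + 8 * sumBelow (fun k => T.cartC k s) T.l) := rfl
    omega
  rw [e1, hsub, sumBelow_eq, sumBelow_eq, sumBelow_eq]
  have : ∀ k, T.coefI r k * T.cartI k s =
      ((T.coefC r k * T.cartC k s : ℕ) : ℤ) + 32 - (4 * (T.coefC r k : ℤ) + 8 * (T.cartC k s : ℤ)) := fun k => by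
    simp only [FTab.coefI, FTab.cartI]; push_cast; ring
  simp only [this, Finset.sum_sub_distrib, Finset.sum_add_distrib, Finset.sum_const, Finset.card_range,
    nsmul_eq_mul, ← Finset.mul_sum, Nat.cast_sum]
  ring

theorem sl_of_check (H : AllOK D T) (h : okSL T = true) : SL (AllOK.cert.{u} H) := by
  have hn := H.basic.nroots_eq
  have key : ∀ r < D.nroots, ∀ s < D.nroots, okPair T r s = true := fun r hr s hs =>
    (allBelow_iff _ _).1 ((allBelow_iff _ _).1 h r (hn ▸ hr)) s (hn ▸ hs)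
  set C := AllOK.cert.{u} H
  have main : ∀ r < D.nroots, ∀ s < D.nroots,
      (s = r → ip C r s = 2 ∧ T.slot r s = 0) ∧ (s = D.neg r → ip C r s = -2) ∧
      (s ≠ r → s ≠ D.neg r → -1 ≤ ip C r s ∧ ip C r s ≤ 1 ∧ ip C r s = ip C s r ∧
        (ip C r s = -1 → T.slot r s ≠ 0 ∧ T.slot r s < 4096 ∧ T.slot r s / 512 % 8 % 2 = 1) ∧
        (ip C r s ≠ -1 → T.slot r s = 0)) := by
    intro r hr s hs
    have hk := key r hr s hs
    simp only [okPair] at hk
    have hneg := H.basic.neg_eq (hn ▸ hr)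
    by_cases h1 : s = r
    · subst h1
      rw [beq_t rfl, cond_true] at hk
      have hv := Nat.eq_of_beq_eq_true hk
      refine ⟨fun _ => ⟨?_, ?_⟩, fun e => absurd e.symm (C.neg_ne s hs), fun e => absurd rfl e⟩
      · rw [ipC_eq H hs hs (by omega), hv]; norm_num
      · exact (H.basic.chainEntry_nil_iff (hn ▸ hs) (hn ▸ hs)).1 (C.chain_self s hs)
    rw [beq_f h1, cond_false] at hk
    refine ⟨fun e => absurd e h1, ?_, ?_⟩
    · intro h2
      rw [beq_t (h2.trans hneg), cond_true] at hk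
      rw [ipC_eq H hr hs (by have := Nat.eq_of_beq_eq_true hk; omega), Nat.eq_of_beq_eq_true hk]; norm_num
    · intro _ h2
      rw [beq_f (hneg ▸ h2), cond_false] at hk
      simp only [Bool.and_eq_true, Nat.ble_eq] at hk
      obtain ⟨⟨⟨ha, hb⟩, hsym⟩, hc⟩ := hk
      have hsym' := Nat.eq_of_beq_eq_true hsym
      have e1 : ip C r s = (ipC T r s : ℤ) - 10 := ipC_eq H hr hs (by omega)
      have e2 : ip C s r = (ipC T s r : ℤ) - 10 := ipC_eq H hs hr (by omega)
      refine ⟨by omega, by omega, by omega, fun hm => ?_, fun hm => ?_⟩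
      · rw [beq_t (by omega), cond_true] at hc
        simp only [Bool.and_eq_true, Bool.not_eq_true', Nat.blt_eq] at hc
        exact ⟨fun e => by simp [e] at hc, hc.1.2, Nat.eq_of_beq_eq_true hc.2⟩
      · rw [beq_f (by omega), cond_false] at hc
        exact Nat.eq_of_beq_eq_true hc
  have hsymm : ∀ r < D.nroots, ∀ s < D.nroots, ip C r s = ip C s r := by
    intro r hr s hs
    obtain ⟨a1, a2, a3⟩ := main r hr s hs
    by_cases h1 : s = r
    · rw [h1]
    by_cases h2 : s = D.neg r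
    · have : r = D.neg s := by rw [h2, C.neg_neg r hr]
      rw [a2 h2, (main s hs r hr).2.1 this]
    exact (a3 h1 h2).2.2.1
  have hslot : ∀ r < D.nroots, ∀ s < D.nroots, s ≠ D.neg r → ip C r s ≠ -1 → T.slot r s = 0 := by
    intro r hr s hs h2 h3
    by_cases h1 : s = r
    · exact ((main r hr s hs).1 h1).2
    · exact ((main r hr s hs).2.2 h1 h2).2.2.2.2 h3
  have hsmall : ∀ r < D.nroots, ∀ s < D.nroots, s ≠ D.neg r → T.slot r s < 4096 := by
    intro r hr s hs h2
    by_cases h3 : ip C r s = -1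
    · exact (((main r hr s hs).2.2 (fun e => by rw [((main r hr s hs).1 e).1] at h3; norm_num at h3) h2).2.2.2.1 h3).2.1
    · rw [hslot r hr s hs h2 h3]; norm_num
  have hroot : ∀ r < D.nroots, ∀ s < D.nroots, s ≠ D.neg r → ∀ k, 2 ≤ k → k ≤ 3 → D.chainRoot r s k = none := by
    intro r hr s hs h2 k hk hk'
    rw [ChevalleyDatum.chainRoot, H.basic.chainEntry_eq (hn ▸ hr) (hn ▸ hs), decode_getElem? _ _ _ (by omega),
      if_pos (Nat.div_eq_of_lt (lt_of_lt_of_le (hsmall r hr s hs h2) (by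
        calc 4096 = 4096 ^ 1 := (pow_one _).symm
          _ ≤ _ := Nat.pow_le_pow_right (by norm_num) (by omega))))]
    rfl
  have hterms : ∀ r < D.nroots, ∀ s < D.nroots, s ≠ D.neg r → D.commTerms r s =
      ([(D.chainRoot r s 1, D.chainM r s 1, 1, 1)] : List (Option ℕ × ℤ × ℕ × ℕ)).filterMap
        fun c => c.1.map fun k => (k, c.2) := by
    intro r hr s hs h2
    have h2' : r ≠ D.neg s := fun e => h2 (by rw [e, C.neg_neg s hs])
    simp only [ChevalleyDatum.commTerms, hroot r hr s hs h2 2 le_rfl (by norm_num),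
      hroot r hr s hs h2 3 (by norm_num) le_rfl, hroot s hs r hr h2' 2 le_rfl (by norm_num),
      hroot s hs r hr h2' 3 (by norm_num) le_rfl, Option.bind_none]
    simp [List.filterMap_cons]
  refine ⟨hsymm, fun r hr => ((main r hr r hr).1 rfl).1,
    fun r hr s hs h1 h2 => ⟨((main r hr s hs).2.2 h1 h2).1, ((main r hr s hs).2.2 h1 h2).2.1⟩,
    fun r hr s hs h2 h3 => ?_, fun r hr s hs h3 => ?_⟩
  · rw [hterms r hr s hs h2, ChevalleyDatum.chainRoot, H.basic.chainEntry_eq (hn ▸ hr) (hn ▸ hs),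
      hslot r hr s hs h2 h3]
    simp [decode]
  · have h1 : s ≠ r := fun e => by rw [((main r hr s hs).1 e).1] at h3; norm_num at h3
    have h2 : s ≠ D.neg r := fun e => by rw [(main r hr s hs).2.1 e] at h3; norm_num at h3
    obtain ⟨hc0, hc1, hc2⟩ := ((main r hr s hs).2.2 h1 h2).2.2.2.1 h3
    rw [hterms r hr s hs h2, ChevalleyDatum.chainRoot, ChevalleyDatum.chainM,
      H.basic.chainEntry_eq (hn ▸ hr) (hn ▸ hs), decode_getElem? _ _ _ (by norm_num), Nat.sub_self, pow_zero,
      Nat.div_one, if_neg hc0]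
    refine ⟨_, _, rfl, ?_⟩
    simp only [decodeOne, Option.map_some, Option.getD_some]
    rcases sgn_cases (T.slot r s / 256) with e | e <;> rw [e] <;> omega

end Cfsg.Agent.Suzuki.SLInv
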