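import Cfsg.Agent.Suzuki.SLInv.Reduce

/-! # Every involution of the unipotent group is conjugate to an orthogonal product -/

set_option autoImplicit false
set_option linter.unusedSectionVars false
set_option maxHeartbeats 1000000

universe u

namespace Cfsg.Agent.Suzuki.SLInv

open Cfsg.Lie Cfsg.Agent.Chev

variable {D : ChevalleyDatum} {C : Cert.{u} D} {F : Type u} [Field F] [CharP F 2] (H : SL C)
include H

/-- The roots orthogonal to a longer list. -/
theorem perp_mono {Y Y' : List ℕ} (h : ∀ y ∈ Y, y ∈ Y') {r : ℕ} (hr : Perp C Y' r) : Perp C Y r :=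
  ⟨hr.1, fun y hy => hr.2 y (h y hy)⟩

variable {Y : List ℕ} {ρ : ℕ}

theorem Orth.drop_zero {Z : List (ℕ × F)} (hZ : Orth C Y Z) :
    ∃ Z', Orth C Y Z' ∧ (∀ p ∈ Z', p.2 ≠ 0) ∧ C.wu Z' = C.wu Z := by
  obtain ⟨h1, h2⟩ := hZ
  induction Z with
  | nil => exact ⟨[], ⟨by simp, List.Pairwise.nil⟩, by simp, rfl⟩
  | cons p Z ih =>
    obtain ⟨hp, hZ⟩ := List.forall_mem_cons.1 h1
    obtain ⟨hpz, hpw⟩ := List.pairwise_cons.1 h2
    classical
    obtain ⟨Z', hZ', hne, e⟩ := ih hZ hpw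
    refine ⟨(p :: Z).filter fun q => decide (q.2 ≠ 0), ⟨fun q hq => h1 q (List.mem_of_mem_filter hq),
      h2.filter _⟩, fun q hq => by simpa using List.of_mem_filter hq, ?_⟩
    clear ih hZ' hne e Z' h1 h2 hp hZ hpz hpw
    induction (p :: Z) with
    | nil => rfl
    | cons q L ihL =>
      by_cases hq : q.2 = 0
      · rw [List.filter_cons_of_neg (by simpa using hq), ihL, C.wu_cons, hq, C.xu_zero, one_mul]
      · rw [List.filter_cons_of_pos (by simpa using hq), C.wu_cons, C.wu_cons, ihL]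

/-- The orthogonal product absorbs the radical. -/
theorem absorb : ∀ (Z : List (ℕ × F)) (Y : List ℕ), Top C Y ρ → Orth C (Y ++ [ρ]) Z → (∀ p ∈ Z, p.2 ≠ 0) →
    ∀ q ∈ spanGroup D F (Rad C Y ρ), C.wu Z * q * (C.wu Z * q) = 1 →
    ∃ h ∈ spanGroup D F (Perp C Y), ∃ q' ∈ spanGroup D F (Rad C (Y ++ Z.map Prod.fst) ρ),
      h * (C.wu Z * q) * h⁻¹ = C.wu Z * q'
  | [], Y, _, _, _, q, hq, _ => ⟨1, one_mem _, q, by simpa using hq, by group⟩
  | (a, t) :: rem, Y, T, hZ, hne, q, hq, h2 => by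
    obtain ⟨ht, hne'⟩ := List.forall_mem_cons.1 hne
    obtain ⟨h, hh, q1, hq1, e1⟩ := absorb_step H T ht hZ hq h2
    obtain ⟨hp, hw⟩ := id hZ
    obtain ⟨hpa, hprem⟩ := List.forall_mem_cons.1 hp
    obtain ⟨hpz, hpw⟩ := List.pairwise_cons.1 hw
    have hal : a < D.nroots := hpa.1.1
    have hρa : ip C ρ a = 0 := by
      rw [H.symm ρ (T.rho_lt H) a hal]; exact hpa.2 ρ (List.mem_append_right _ (List.mem_singleton_self _))
    have hrem' : Orth C ((Y ++ [a]) ++ [ρ]) rem := ⟨fun p hp' => ⟨(hprem p hp').1, fun y hy => by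
      rcases List.mem_append.1 hy with hy | hy
      · rcases List.mem_append.1 hy with hy | hy
        · exact (hprem p hp').2 y (List.mem_append_left _ hy)
        · rw [List.mem_singleton.1 hy, H.symm _ (hprem p hp').1.1 a hal]; exact hpz p hp'
      · exact (hprem p hp').2 y (List.mem_append_right _ hy)⟩, hpw⟩
    have hc : ∀ g ∈ spanGroup D F (Perp C (Y ++ [a])), Commute (C.xu a t) g := fun g hg =>
      perp_commute H (List.mem_append_right _ (List.mem_singleton_self _)) hal t hg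
    have hremP : C.wu rem ∈ spanGroup D F (Perp C (Y ++ [a])) := C.wu_mem_span _ fun p hp' =>
      perp_mono H (fun y hy => List.mem_append_left _ hy) (hrem'.1 p hp').perp
    have hin : C.wu rem * q1 ∈ spanGroup D F (Perp C (Y ++ [a])) :=
      mul_mem hremP (C.span_mono (fun r hr => hr.1) hq1)
    have e2 : C.wu ((a, t) :: rem) * q1 * (C.wu ((a, t) :: rem) * q1) = 1 := by
      rw [← e1, show h * (C.wu ((a, t) :: rem) * q) * h⁻¹ * (h * (C.wu ((a, t) :: rem) * q) * h⁻¹) =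
        h * (C.wu ((a, t) :: rem) * q * (C.wu ((a, t) :: rem) * q)) * h⁻¹ by group, h2, mul_one, mul_inv_cancel]
    have e3 : C.wu rem * q1 * (C.wu rem * q1) = 1 := by
      rw [C.wu_cons, mul_assoc (C.xu a t), (hc _ hin).symm.mul_mul_mul_comm, SL.sq_one H, one_mul] at e2
      exact e2
    obtain ⟨g, hg, q2, hq2, e4⟩ := absorb rem (Y ++ [a]) (Top.cons H T hρa) hrem' hne' q1 hq1 e3
    refine ⟨g * h, mul_mem (C.span_mono (fun r hr => perp_mono H (fun y hy => List.mem_append_left _ hy) hr) hg) hh,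
      q2, by simpa using hq2, ?_⟩
    rw [show g * h * (C.wu ((a, t) :: rem) * q) * (g * h)⁻¹ = g * (h * (C.wu ((a, t) :: rem) * q) * h⁻¹) * g⁻¹ by
      group, e1, C.wu_cons, mul_assoc (C.xu a t), mul_assoc (C.xu a t), ← e4,
      ← mul_assoc g, ← (hc g hg).eq]
    simp only [mul_assoc]

omit [CharP F 2] in
/-- Elements of the span are sums. -/
theorem eq_one_of_two_spans {P : ℕ → Prop} (hP : ClosedSet D P) {r : ℕ} (hr : D.IsPosRoot r) (hrP : ¬ P r)
    {z : F} (hz : C.xu r z ∈ spanGroup D F P) : z = 0 := by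
  obtain ⟨t, ht, e⟩ := C.exists_prodU hP hz
  rw [← C.prodU_single hr z] at e
  have := C.prodU_inj e r hr
  rw [if_pos rfl] at this
  by_contra h
  exact hrP (ht r (this ▸ h))

/-- The radical alone: split off a root element. -/
theorem radical_case (T : Top C Y ρ) {g : GL D.Idx F} (hg : g ∈ spanGroup D F (Rad C Y ρ)) (h2 : g * g = 1) :
    (∃ z, g = C.xu ρ z) ∨ ∃ b, Pos C Y b ∧ ∃ h ∈ spanGroup D F (Perp C Y), ∃ β : F,
      ∃ r ∈ spanGroup D F (Pos C (Y ++ [b])), r * r = 1 ∧ h * g * h⁻¹ = C.xu b β * r := by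
  classical
  obtain ⟨f, hf⟩ := T.mo_of_mem H hg
  by_cases h0 : f = 0
  · left
    obtain ⟨z, e⟩ := hf.2
    exact ⟨z, by rw [e, h0, T.E_zero H, one_mul]⟩
  right
  obtain ⟨b, hb⟩ := Function.ne_iff.1 h0
  have hbL : b ∈ Lst C Y ρ := by_contra fun h => hb (hf.1 b h)
  have hbr := ((T.mem_L H).1 hbL).1
  have hbpos := T.rad_pos H hbr
  refine ⟨b, hbpos, ?_⟩
  -- clear grade one
  have clear : ∀ l : List ℕ, ∃ h ∈ spanGroup D F (Perp C Y), ∃ g' ∈ spanGroup D F (Rad C Y ρ), ∃ f' : ℕ → F,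
      h * g * h⁻¹ = g' ∧ Mo C Y ρ g' f' ∧ f' b = f b ∧ ∀ d ∈ l, d ∈ Lst C Y ρ → ip C d b = 1 → f' d = 0 := by
    intro l
    induction l with
    | nil => exact ⟨1, one_mem _, g, hg, f, by group, hf, rfl, by simp⟩
    | cons d l ih =>
      obtain ⟨h, hh, g', hg', f', e, hm, hfb, hl⟩ := ih
      by_cases hd : d ∈ Lst C Y ρ ∧ ip C d b = 1
      swap
      · refine ⟨h, hh, g', hg', f', e, hm, hfb, fun d' hd' hdL hdb => ?_⟩
        rcases List.mem_cons.1 hd' with rfl | hd'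
        · exact absurd ⟨hdL, hdb⟩ hd
        · exact hl d' hd' hdL hdb
      obtain ⟨hdL, hdb⟩ := hd
      obtain ⟨c, hc0⟩ := H.exists_sum (T.L_lt H hdL) (C.neg_lt b (T.L_lt H hbL))
        (by rw [H.ip_neg_right (T.L_lt H hdL) (T.L_lt H hbL), hdb])
      have hclt : c < D.nroots := hc0.1
      have hc : IsSum C b c d := ⟨T.L_lt H hdL, fun j hj => by
        rw [hc0.2 j hj, C.coef_neg b (T.L_lt H hbL) j hj]; ring⟩
      have hcY : Perp C Y c := ⟨hclt, fun y hy => by
        have := hc.ip_eq y; rw [((T.mem_L H).1 hdL).1.1.2 y hy, hbr.1.2 y hy] at this; omega⟩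
      have hcρ : ip C c ρ = 0 := by
        have := hc.ip_eq ρ; rw [T.grade H hdL, T.grade H hbL] at this; omega
      set s := f' d / f' b
      obtain ⟨h1, h2'⟩ := T.mo_conj H hcY hcρ s hg'
      refine ⟨C.xu c s * h, mul_mem (C.xu_mem_span hcY _) hh, _, h1, _, ?_, h2' f' hm, ?_, ?_⟩
      · rw [← e, mul_inv_rev, SL.inv_self H]; group
      · show f' b + s * Nop C Y ρ c f' b = f b
        have hbc : ip C b c = -1 := by
          have := hc.ip_eq b
          rw [hdb, H.self b (T.L_lt H hbL), H.symm c hclt b (T.L_lt H hbL)] at this; omega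
        rw [T.nop_zero H hclt hcρ (by omega), mul_zero, add_zero, hfb]
      · intro e' he' heL heb
        show f' e' + s * Nop C Y ρ c f' e' = 0
        have hbsum : IsSum C b c d := hc
        by_cases hed : e' = d
        · subst hed
          have hfb0 : f' b ≠ 0 := by rw [hfb]; exact hb
          rw [T.nop_eq H hbL hdL hbsum, div_mul_cancel₀ _ hfb0, CharTwo.add_self_eq_zero]
        · rcases List.mem_cons.1 he' with h | h
          · exact absurd h hed
          rw [hl e' h heL heb, zero_add]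
          by_cases h1 : ip C e' c = 1
          · obtain ⟨x, hx, hs, ee⟩ := T.nop_src H (F := F) hcY hcρ heL h1
            -- the source has grade two, so it is `b`
            have h3 := hs.ip_eq b
            have h4 := hbsum.ip_eq b
            rw [heb] at h3
            rw [hdb, H.self b (T.L_lt H hbL)] at h4
            have hx2 : ip C x b = 2 := by omega
            have : b = x := H.eq_of_ip_two (T.L_lt H hx) (T.L_lt H hbL) hx2
            subst this
            exact absurd (hs.unique hbsum) hed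
          · rw [T.nop_zero H hclt hcρ h1, mul_zero]
  obtain ⟨h, hh, g', hg', f', e, ⟨hsupp, z, eg⟩, hfb, hl⟩ := clear (Lst C Y ρ)
  have hl' : ∀ d ∈ Lst C Y ρ, ip C d b = 1 → f' d = 0 := fun d hd h1 => hl d hd hd h1
  obtain ⟨b', hb'⟩ := H.exists_sum (T.rho_lt H) (C.neg_lt b (T.L_lt H hbL))
    (by rw [H.ip_neg_right (T.rho_lt H) (T.L_lt H hbL), H.symm ρ (T.rho_lt H) b (T.L_lt H hbL), T.grade H hbL])
  have hb'ip : ∀ x, ip C b' x = ip C ρ x - ip C b x := fun x => by
    rw [hb'.ip_eq, ip_neg (T.L_lt H hbL)]; ring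
  have hbb : IsSum C b b' ρ := ⟨T.rho_lt H, fun j hj => by
    rw [hb'.2 j hj, C.coef_neg b (T.L_lt H hbL) j hj]; ring⟩
  have hb'Y : Perp C Y b' := ⟨hb'.1, fun y hy => by rw [hb'ip, T.pos.2 y hy, hbr.1.2 y hy, sub_zero]⟩
  have hb'L : b' ∈ Lst C Y ρ := T.mem_of_grade H hb'Y (by rw [hb'ip, H.self ρ (T.rho_lt H), T.grade H hbL]; norm_num)
  have hbb' : ip C b b' = -1 := by
    rw [H.symm b (T.L_lt H hbL) b' hb'.1, hb'ip, H.self b (T.L_lt H hbL), H.symm ρ (T.rho_lt H) b (T.L_lt H hbL),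
      T.grade H hbL]; norm_num
  -- split the coordinates
  let fb : ℕ → F := fun r => if r = b then f' b else 0
  let fb' : ℕ → F := fun r => if r = b' then f' b' else 0
  let fR : ℕ → F := fun r => if r = b ∨ r = b' then 0 else f' r
  have hbne : b ≠ b' := fun e => by rw [← e, H.self b (T.L_lt H hbL)] at hbb'; norm_num at hbb'
  have hsum : f' = fb + fb' + fR := funext fun r => by
    simp only [fb, fb', fR, Pi.add_apply]
    by_cases h1 : r = b
    · subst h1; simp [hbne]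
    · by_cases h2 : r = b' <;> simp [h1, h2, Ne.symm hbne]
  have hRgrade : ∀ r, fR r ≠ 0 → r ∈ Lst C Y ρ ∧ ip C r b = 0 ∧ ip C r b' = 1 := by
    intro r hr
    have hr1 : ¬ (r = b ∨ r = b') := fun h => hr (if_pos h)
    have hr2 : f' r ≠ 0 := fun h => hr (by simp only [fR, if_neg hr1]; exact h)
    have hrL : r ∈ Lst C Y ρ := by_contra fun h => hr2 (hsupp r h)
    have hne1 : ip C r b ≠ 1 := fun h => hr2 (hl' r hrL h)
    have hnn : b ≠ D.neg r := T.ne_neg H ((T.mem_L H).1 hrL).1 hbr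
    have hbd := H.bound r (T.L_lt H hrL) b (T.L_lt H hbL) (fun e => hr1 (Or.inl e.symm)) hnn
    have hne2 : ip C r b ≠ -1 := fun h => by
      obtain ⟨d, hd⟩ := H.exists_sum (T.L_lt H hrL) (T.L_lt H hbL) h
      have : d = ρ := (H.eq_of_ip_two hd.1 (T.rho_lt H) (by rw [hd.ip_eq, T.grade H hrL, T.grade H hbL]; norm_num)).symm
      subst this
      exact hr1 (Or.inr (IsSum.unique_left (T.L_lt H hrL) hb'.1 hd
        ⟨T.rho_lt H, fun j hj => by rw [hbb.2 j hj, add_comm]⟩))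
    refine ⟨hrL, by omega, ?_⟩
    rw [H.symm r (T.L_lt H hrL) b' hb'.1, hb'ip, H.symm ρ (T.rho_lt H) r (T.L_lt H hrL), T.grade H hrL,
      H.symm b (T.L_lt H hbL) r (T.L_lt H hrL)]
    omega
  set R := E C Y ρ fR
  have hMR : Mo C Y ρ R fR := ⟨fun r hr => by_contra fun h => hr (hRgrade r h).1, 0, by rw [C.xu_zero, mul_one]⟩
  have hR : R ∈ spanGroup D F (Pos C (Y ++ [b])) := C.wu_mem_span' _ fun p hp hne => by
    obtain ⟨r, hr, rfl⟩ := List.mem_map.1 hp
    refine ⟨(T.rad_pos H ((T.mem_L H).1 hr).1).1, fun y hy => ?_⟩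
    rcases List.mem_append.1 hy with hy | hy
    · exact ((T.mem_L H).1 hr).1.1.2 y hy
    · rw [List.mem_singleton.1 hy]; exact (hRgrade r hne).2.1
  have hMg : Mo C Y ρ (C.xu b (f' b) * C.xu b' (f' b') * R) f' := by
    have := T.mo_mul H (T.mo_mul H (T.mo_single H hbL (f' b)) (T.mo_single H hb'L (f' b'))) hMR
    rwa [show ((fun r => if r = b then f' b else 0) + fun r => if r = b' then f' b' else 0) + fR = f' from hsum.symm]
      at this
  obtain ⟨-, w, ew⟩ := hMg
  have eg' : g' = C.xu b (f' b) * C.xu b' (f' b') * R * C.xu ρ (z - w) := by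
    rw [ew, mul_assoc, C.xu_add, add_sub_cancel, ← eg]
  -- the centre and `b'`
  have hRr : Commute (C.xu b (f' b)) R := perp_commute H (List.mem_append_right _ (List.mem_singleton_self _))
    (T.L_lt H hbL) _ (C.span_mono (fun r hr => hr.perp) hR)
  have hRr' : ∀ s, Commute (C.xu b' s) R := fun s => wu_comm_of H fun p hp => by
    obtain ⟨r, hr, rfl⟩ := List.mem_map.1 hp
    by_cases hz : fR r = 0
    · show Commute _ (C.xu r (fR r)); rw [hz, C.xu_zero]; exact Commute.one_right _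
    · refine H.commute hb'.1 (T.L_lt H hr) (T.ne_neg H ((T.mem_L H).1 hb'L).1 ((T.mem_L H).1 hr).1) ?_ _ _
      rw [H.symm b' hb'.1 r (T.L_lt H hr), (hRgrade r hz).2.2]; norm_num
  have hρc : ∀ (v : F), Commute (C.xu ρ v) (C.xu b (f' b) * C.xu b' (f' b') * R) := fun v =>
    ((T.central H hbr _ v).mul_right (T.central H ((T.mem_L H).1 hb'L).1 _ v)).mul_right (T.central_E H fR v)
  have hg2 : g' * g' = 1 := by
    rw [← e, show h * g * h⁻¹ * (h * g * h⁻¹) = h * (g * g) * h⁻¹ by group, h2, mul_one, mul_inv_cancel]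
  have hrule : C.xu b' (f' b') * C.xu b (f' b) * C.xu b' (f' b') = C.xu b (f' b) * C.xu ρ (f' b' * f' b) :=
    H.conj_sum hb'.1 (T.L_lt H hbL) hbb hbb' _ _
  have hsq : C.xu ρ (f' b' * f' b) * (R * R) = 1 := by
    rw [eg'] at hg2
    rw [(hρc (z - w)).mul_mul_mul_comm, SL.sq_one H, mul_one] at hg2
    have hc2 : Commute R (C.xu b (f' b) * C.xu b' (f' b')) := (hRr.symm).mul_right (hRr' _).symm
    rw [hc2.mul_mul_mul_comm] at hg2
    rw [show C.xu b (f' b) * C.xu b' (f' b') * (C.xu b (f' b) * C.xu b' (f' b')) =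
      C.xu b (f' b) * (C.xu b' (f' b') * C.xu b (f' b) * C.xu b' (f' b')) by group, hrule, ← mul_assoc (C.xu b _),
      SL.sq_one H, one_mul] at hg2
    exact hg2
  have hγ : f' b' = 0 := by
    have h1 : C.xu ρ (f' b' * f' b) ∈ spanGroup D F (Pos C (Y ++ [b])) := by
      rw [eq_inv_of_mul_eq_one_left hsq]; exact inv_mem (mul_mem hR hR)
    have := eq_one_of_two_spans H (H.pos_closed _) T.pos.1 (fun hp => by
      have := hp.2 b (List.mem_append_right _ (List.mem_singleton_self _))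
      rw [H.symm ρ (T.rho_lt H) b (T.L_lt H hbL), T.grade H hbL] at this; omega) h1
    exact (mul_eq_zero.1 this).resolve_right (by rw [hfb]; exact hb)
  rw [hγ, C.xu_zero, mul_one] at eg'
  rw [hγ, zero_mul, C.xu_zero, one_mul] at hsq
  set s := (z - w) / f' b
  refine ⟨C.xu b' s * h, mul_mem (C.xu_mem_span hb'Y _) hh, f' b, R, hR, hsq, ?_⟩
  rw [show C.xu b' s * h * g * (C.xu b' s * h)⁻¹ = C.xu b' s * (h * g * h⁻¹) * (C.xu b' s)⁻¹ by group, e, eg',
    SL.inv_self H]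
  have hfb0 : f' b ≠ 0 := by rw [hfb]; exact hb
  have hs : s * f' b = z - w := div_mul_cancel₀ _ hfb0
  have hρs : Commute (C.xu ρ (z - w)) (C.xu b' s) := T.central H ((T.mem_L H).1 hb'L).1 _ _
  rw [show C.xu b' s * (C.xu b (f' b) * R * C.xu ρ (z - w)) * C.xu b' s =
      C.xu b' s * C.xu b (f' b) * (R * (C.xu ρ (z - w) * C.xu b' s)) by group, hρs.eq,
    ← mul_assoc R, ← (hRr' s).eq, show C.xu b' s * C.xu b (f' b) * (C.xu b' s * R * C.xu ρ (z - w)) =
      C.xu b' s * C.xu b (f' b) * C.xu b' s * (R * C.xu ρ (z - w)) by group,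
    H.conj_sum hb'.1 (T.L_lt H hbL) hbb hbb', hs, ← (T.central_E H fR (z - w)).eq,
    mul_assoc, ← mul_assoc (C.xu ρ (z - w)), SL.sq_one H, one_mul]

open Classical in
/-- The induction measure. -/
noncomputable def size (C : Cert.{u} D) (Y : List ℕ) : ℕ := (D.posRoots.filter fun r => decide (Pos C Y r)).length

theorem size_lt {Y Y' : List ℕ} (h : ∀ y ∈ Y, y ∈ Y') {b : ℕ} (hb : Pos C Y b) (hb' : ¬ Pos C Y' b) :
    size C Y' < size C Y := by
  classical
  have hsub : ∀ r, Pos C Y' r → Pos C Y r := fun r hr => ⟨hr.1, fun y hy => hr.2 y (h y hy)⟩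
  unfold size
  have hs : (D.posRoots.filter fun r => decide (Pos C Y' r)).Sublist (D.posRoots.filter fun r => decide (Pos C Y r)) :=
    List.monotone_filter_right _ fun r hr => decide_eq_true (hsub r (of_decide_eq_true hr))
  refine lt_of_le_of_ne hs.length_le fun e => hb' ?_
  have := hs.eq_of_length e
  have hm : b ∈ D.posRoots.filter fun r => decide (Pos C Y r) :=
    List.mem_filter.2 ⟨Cert.mem_posRoots.2 hb.1, decide_eq_true hb⟩
  rw [← this] at hm
  exact of_decide_eq_true (List.mem_filter.1 hm).2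

theorem not_pos_self {Y : List ℕ} {b : ℕ} (hb : b < D.nroots) (h : b ∈ Y) : ¬ Pos C Y b := fun hp => by
  have := hp.2 b h
  rw [H.self b hb] at this
  norm_num at this

/-- **Every involution is conjugate to an orthogonal product of root elements.** -/
theorem reduce : ∀ (n : ℕ) (Y : List ℕ), size C Y = n → ∀ g ∈ spanGroup D F (Pos C Y), g * g = 1 →
    ∃ h ∈ spanGroup D F (Perp C Y), ∃ Z : List (ℕ × F), Orth C Y Z ∧ h * g * h⁻¹ = C.wu Z := by
  intro n
  induction n using Nat.strong_induction_on with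
  | _ n ih =>
  intro Y hn g hg h2
  classical
  by_cases hne : ∃ r, Pos C Y r
  swap
  · refine ⟨1, one_mem _, [], ⟨by simp, List.Pairwise.nil⟩, ?_⟩
    have : g = 1 := by
      rw [C.span_empty' fun r hr => hne ⟨r, hr⟩] at hg
      exact Subgroup.mem_bot.1 hg
    simp [this, Cert.wu]
  obtain ⟨r0, hr0⟩ := hne
  obtain ⟨ρ, hρ, hmax⟩ := ((Finset.range D.nroots).filter (Pos C Y)).exists_max_image C.ht
    ⟨r0, Finset.mem_filter.2 ⟨Finset.mem_range.2 hr0.1.1, hr0⟩⟩
  have hρp := (Finset.mem_filter.1 hρ).2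
  have T : Top C Y ρ := ⟨hρp, fun r hr => by
    by_contra h
    by_cases h1 : ρ = D.neg r
    · exact C.not_pos_and_neg hρp.1 (h1 ▸ C.negRoot_neg hr.1)
    have hne : ρ ≠ r := fun e => by subst e; rw [H.self _ hr.1.1] at h; omega
    have hb := H.bound r hr.1.1 ρ hρp.1.1 hne h1
    obtain ⟨c, hc⟩ := H.exists_sum hr.1.1 hρp.1.1 (by omega)
    have hcp : Pos C Y c := by
      refine ⟨(C.pos_iff c hc.1).2 fun j hj => ?_, (perp_sum hc hr.perp hρp.perp).2⟩
      rw [hc.2 j hj]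
      exact add_nonneg ((C.pos_iff r hr.1.1).1 hr.1 j hj) ((C.pos_iff ρ hρp.1.1).1 hρp.1 j hj)
    have := hmax c (Finset.mem_filter.2 ⟨Finset.mem_range.2 hc.1, hcp⟩)
    have := hc.ht_eq
    have := C.ht_pos hr.1
    omega⟩
  set Y0 := Y ++ [ρ]
  have hYY0 : ∀ y ∈ Y, y ∈ Y0 := fun y hy => List.mem_append_left _ hy
  -- decomposition
  set Q := spanGroup D F (Rad C Y ρ)
  set L := spanGroup D F (Pos C Y0)
  have hnorm : spanGroup D F (Perp C Y0) ≤ Subgroup.normalizer (Q : Set (GL D.Idx F)) := C.span_le fun c hc t => by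
    have hcY : Perp C Y c := perp_mono H hYY0 hc
    have hcρ : ip C c ρ = 0 := hc.2 ρ (List.mem_append_right _ (List.mem_singleton_self _))
    refine C.mem_normalizer_span (fun r hr v => ?_) fun r hr v => ?_
    all_goals rw [SL.inv_self H]; exact (T.mo_conj H hcY hcρ t (C.xu_mem_span hr v)).1
  have hLP : L ≤ spanGroup D F (Perp C Y0) := C.span_mono fun r hr => hr.perp
  have hle : spanGroup D F (Pos C Y) ≤ Q ⊔ L := C.span_le fun r hr t => by
    by_cases h : ip C r ρ = 0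
    · exact Subgroup.mem_sup_right (C.xu_mem_span ⟨hr.1, fun y hy => by
        rcases List.mem_append.1 hy with hy | hy
        · exact hr.2 y hy
        · rw [List.mem_singleton.1 hy]; exact h⟩ t)
    · exact Subgroup.mem_sup_left (C.xu_mem_span ⟨hr.perp, by have := T.dom r hr; omega⟩ t)
  obtain ⟨q, hq, u, hu, rfl⟩ := (Cert.mem_sup_of_normalised (le_trans hLP hnorm)).1 (hle hg)
  have hmemQ : ∀ x ∈ spanGroup D F (Perp C Y0), ∀ q ∈ Q, x * q * x⁻¹ ∈ Q := fun x hx q hq =>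
    (Subgroup.mem_normalizer_iff.1 (hnorm hx) q).1 hq
  have huP := hLP hu
  have hu2 : u * u = 1 := by
    have h1 : u * u ∈ Q := by
      have : u * u = (q * (u * q * u⁻¹))⁻¹ := by
        refine eq_inv_of_mul_eq_one_right ?_
        rw [← h2]; group
      rw [this]; exact inv_mem (mul_mem hq (hmemQ u huP q hq))
    -- both spans meet trivially
    obtain ⟨t, ht, e⟩ := C.exists_prodU (H.pos_closed Y0) (mul_mem hu hu)
    obtain ⟨f, h0, z, ef⟩ := T.mo_of_mem H h1
    have hf0 : f = 0 := by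
      refine T.mo_uniq H (g := u * u) ⟨h0, z, ef⟩ ?_
      have hcl : ClosedSet D fun r => D.IsPosRoot r ∧ Rad C Y ρ r := by
        refine ⟨fun r hr => hr.1, fun r s hr hs c hc => ?_⟩
        have hn : s ≠ D.neg r := T.ne_neg H hr.2 hs.2
        have hc' := (H.pos_closed Y).closed r s (T.rad_pos H hr.2) (T.rad_pos H hs.2) c hc
        by_cases h : ip C r s = -1
        · obtain ⟨d, k, e, -⟩ := H.comm1 r hr.1.1 s hs.1.1 h
          rw [e, List.mem_singleton] at hc
          subst hc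
          have hm : (d, k, 1, 1) ∈ D.commTerms r s := e ▸ List.mem_singleton_self _
          have hd : IsSum C r s d := ⟨C.commTerms_lt hr.1.1 hs.1.1 _ hm, fun j hj => by
            have := (C.commTerms_coef hr.1.1 hs.1.1 _ hm).2.2 j hj
            simpa using this⟩
          refine ⟨hc'.1, hc'.perp, ?_⟩
          rw [hd.ip_eq]
          have := hr.2.2; have := hs.2.2
          omega
        · rw [H.comm0 r hr.1.1 s hs.1.1 hn h] at hc
          simp at hc
      obtain ⟨t2, ht2, e2⟩ := C.exists_prodU (P := fun r => D.IsPosRoot r ∧ Rad C Y ρ r) hcl (g := u * u)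
        (C.span_mono (fun r hr => ⟨(T.rad_pos H hr).1, hr⟩) h1)
      have : ∀ r, D.IsPosRoot r → t r = 0 := fun r hr => by
        have heq := C.prodU_inj (e.symm.trans e2) r hr
        by_contra hne
        have h1 := (ht r hne).2 ρ (List.mem_append_right _ (List.mem_singleton_self _))
        have h2 := (ht2 r (heq ▸ hne)).2.2
        omega
      rw [e, show C.prodU t = 1 from ?_]
      · exact T.mo_one H
      · refine List.prod_eq_one fun x hx => ?_
        simp only [List.map_map, List.mem_map] at hx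
        obtain ⟨r, hr, rfl⟩ := hx
        simp [this r (Cert.mem_posRoots.1 hr), C.xu_zero]
    -- the centre is outside the Levi part
    have hx : C.xu ρ z ∈ spanGroup D F (Pos C Y0) := by
      rw [show C.xu ρ z = u * u by rw [ef, hf0, T.E_zero H, one_mul]]
      exact mul_mem hu hu
    have hz := eq_one_of_two_spans H (H.pos_closed Y0) hρp.1
      (not_pos_self H hρp.1.1 (List.mem_append_right _ (List.mem_singleton_self _))) hx
    rw [ef, hf0, T.E_zero H, one_mul, hz, C.xu_zero]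
  obtain ⟨h0, hh0, Z, hZ, eZ⟩ := ih (size C Y0)
    (hn ▸ size_lt H hYY0 hρp (not_pos_self H hρp.1.1 (List.mem_append_right _ (List.mem_singleton_self _))))
    Y0 rfl u hu hu2
  obtain ⟨Z1, hZ1, hne1, eZ1⟩ := Orth.drop_zero H hZ
  rw [← eZ1] at eZ
  set y := C.wu Z1
  have hy : y * y = 1 := sq_of_orth H hZ1
  have hyi : y⁻¹ = y := inv_eq_of_mul_eq_one_right hy
  have hyP : y ∈ spanGroup D F (Perp C Y0) := C.wu_mem_span _ fun p hp => (hZ1.1 p hp).perp
  set q1 := y⁻¹ * (h0 * q * h0⁻¹) * y⁻¹⁻¹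
  have hq1 : q1 ∈ Q := hmemQ _ (inv_mem hyP) _ (hmemQ h0 hh0 q hq)
  have e0 : h0 * (q * u) * h0⁻¹ = y * q1 := by
    rw [show h0 * (q * u) * h0⁻¹ = (h0 * q * h0⁻¹) * (h0 * u * h0⁻¹) by group, eZ]
    simp only [q1]; group
  have hh0Y : h0 ∈ spanGroup D F (Perp C Y) := C.span_mono (fun r hr => perp_mono H hYY0 hr) hh0
  have hyq : y * q1 * (y * q1) = 1 := by
    rw [← e0, show h0 * (q * u) * h0⁻¹ * (h0 * (q * u) * h0⁻¹) = h0 * (q * u * (q * u)) * h0⁻¹ by group, h2,
      mul_one, mul_inv_cancel]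
  obtain ⟨h1, hh1, q2, hq2, e1⟩ := absorb H Z1 Y T hZ1 hne1 q1 hq1 hyq
  set Y1 := Y ++ Z1.map Prod.fst
  have hYY1 : ∀ y ∈ Y, y ∈ Y1 := fun y hy => List.mem_append_left _ hy
  have hh10 : h1 * h0 ∈ spanGroup D F (Perp C Y) := mul_mem hh1 hh0Y
  have eA : h1 * h0 * (q * u) * (h1 * h0)⁻¹ = y * q2 := by
    rw [show h1 * h0 * (q * u) * (h1 * h0)⁻¹ = h1 * (h0 * (q * u) * h0⁻¹) * h1⁻¹ by group, e0, e1]
  have hρZ : ∀ p ∈ Z1, ip C ρ p.1 = 0 := fun p hp => by
    rw [H.symm ρ hρp.1.1 p.1 (hZ1.1 p hp).1.1]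
    exact (hZ1.1 p hp).2 ρ (List.mem_append_right _ (List.mem_singleton_self _))
  have T1 : Top C Y1 ρ := ⟨⟨hρp.1, fun x hx => by
      rcases List.mem_append.1 hx with hx | hx
      · exact hρp.2 x hx
      · obtain ⟨p, hp, rfl⟩ := List.mem_map.1 hx; exact hρZ p hp⟩,
    fun r hr => T.dom r ⟨hr.1, fun x hx => hr.2 x (hYY1 x hx)⟩⟩
  have hq2P : q2 ∈ spanGroup D F (Pos C Y1) := C.span_mono (fun r hr => T1.rad_pos H hr) hq2
  have hycomm : ∀ x ∈ spanGroup D F (Perp C Y1), Commute y x := fun x hx =>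
    (wu_comm_of H fun p hp => (perp_commute H (List.mem_append_right _ (List.mem_map_of_mem hp))
      (hZ1.1 p hp).1.1 p.2 hx).symm).symm
  have hq22 : q2 * q2 = 1 := by
    have h3 : y * q2 * (y * q2) = 1 := by
      rw [← eA, show h1 * h0 * (q * u) * (h1 * h0)⁻¹ * (h1 * h0 * (q * u) * (h1 * h0)⁻¹) =
        h1 * h0 * (q * u * (q * u)) * (h1 * h0)⁻¹ by group, h2, mul_one, mul_inv_cancel]
    rwa [(hycomm q2 (C.span_mono (fun r hr => hr.perp) hq2P)).symm.mul_mul_mul_comm, hy, one_mul] at h3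
  have hZ1Y : Orth C Y Z1 := ⟨fun p hp => ⟨(hZ1.1 p hp).1, fun x hx => (hZ1.1 p hp).2 x (hYY0 x hx)⟩, hZ1.2⟩
  cases hZe : Z1 with
  | cons p0 Z0 =>
    have hp0 : p0 ∈ Z1 := hZe ▸ List.mem_cons_self
    obtain ⟨h2', hh2, Z2, hZ2, e2⟩ := ih (size C Y1) (hn ▸ size_lt H hYY1 ⟨(hZ1.1 p0 hp0).1, (hZ1Y.1 p0 hp0).2⟩
      (not_pos_self H (hZ1.1 p0 hp0).1.1 (List.mem_append_right _ (List.mem_map_of_mem hp0)))) Y1 rfl q2 hq2P hq22
    refine ⟨h2' * (h1 * h0), mul_mem (C.span_mono (fun r hr => perp_mono H hYY1 hr) hh2) hh10, Z1 ++ Z2,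
      ⟨fun p hp => ?_, ?_⟩, ?_⟩
    · rcases List.mem_append.1 hp with hp | hp
      · exact hZ1Y.1 p hp
      · exact ⟨(hZ2.1 p hp).1, fun x hx => (hZ2.1 p hp).2 x (hYY1 x hx)⟩
    · refine List.pairwise_append.2 ⟨hZ1.2, hZ2.2, fun p hp p' hp' => ?_⟩
      rw [H.symm p.1 (hZ1.1 p hp).1.1 p'.1 (hZ2.1 p' hp').1.1]
      exact (hZ2.1 p' hp').2 _ (List.mem_append_right _ (List.mem_map_of_mem hp))
    · rw [show h2' * (h1 * h0) * (q * u) * (h2' * (h1 * h0))⁻¹ =
        h2' * (h1 * h0 * (q * u) * (h1 * h0)⁻¹) * h2'⁻¹ by group, eA, C.wu_append, ← e2, ← mul_assoc h2' y,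
        ← (hycomm h2' hh2).eq]
      simp only [y, mul_assoc]
  | nil =>
    have hy1 : y = 1 := by simp [y, hZe, Cert.wu]
    rw [hy1, one_mul] at eA
    have hq2' : q2 ∈ spanGroup D F (Rad C Y ρ) := by simpa [Y1, hZe] using hq2
    rcases radical_case H T hq2' hq22 with ⟨z, ez⟩ | ⟨b, hb, k, hk, β, r, hr, hr2, ek⟩
    · exact ⟨h1 * h0, hh10, [(ρ, z)], ⟨by simpa using hρp, List.pairwise_singleton _ _⟩, by rw [eA, ez]; simp [Cert.wu]⟩
    · have hYb : ∀ y ∈ Y, y ∈ Y ++ [b] := fun y hy => List.mem_append_left _ hy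
      obtain ⟨k2, hk2, Z2, hZ2, e2⟩ := ih (size C (Y ++ [b])) (hn ▸ size_lt H hYb hb
        (not_pos_self H hb.1.1 (List.mem_append_right _ (List.mem_singleton_self _)))) _ rfl r hr hr2
      refine ⟨k2 * (k * (h1 * h0)), mul_mem (C.span_mono (fun r hr => perp_mono H hYb hr) hk2) (mul_mem hk hh10),
        (b, β) :: Z2, ⟨fun p hp => ?_, ?_⟩, ?_⟩
      · rcases List.mem_cons.1 hp with rfl | hp
        · exact hb
        · exact ⟨(hZ2.1 p hp).1, fun x hx => (hZ2.1 p hp).2 x (hYb x hx)⟩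
      · refine List.pairwise_cons.2 ⟨fun p hp => ?_, hZ2.2⟩
        rw [H.symm b hb.1.1 p.1 (hZ2.1 p hp).1.1]
        exact (hZ2.1 p hp).2 b (List.mem_append_right _ (List.mem_singleton_self _))
      · have hbk := perp_commute H (List.mem_append_right Y (List.mem_singleton_self b)) hb.1.1 β hk2
        rw [show k2 * (k * (h1 * h0)) * (q * u) * (k2 * (k * (h1 * h0)))⁻¹ =
          k2 * (k * (h1 * h0 * (q * u) * (h1 * h0)⁻¹) * k⁻¹) * k2⁻¹ by group, eA, ek, C.wu_cons, ← e2,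
          ← mul_assoc k2, ← hbk.eq]
        simp only [mul_assoc]

end Cfsg.Agent.Suzuki.SLInv
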