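import Cfsg.Agent.Suzuki.SLInv.Words
import Cfsg.Agent.Suzuki.SLInv.Induct
import Cfsg.Agent.LeadWork.ChevFieldInvolution

/-! # Every involution is conjugate to one of finitely many tabulated products -/

set_option autoImplicit false
set_option linter.unusedSectionVars false
set_option maxHeartbeats 1000000

universe u

namespace Cfsg.Agent.Suzuki.SLInv

open Cfsg.Lie Cfsg.Agent.Chev

variable (T : FTab)

/-- Roots and coroots agree. -/
noncomputable def okSame : Bool := allBelow (fun r => allBelow (fun k => Nat.beq (T.corC r k) (T.coefC r k)) T.l) T.n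

/-- A certified move of a word onto a representative. -/
noncomputable def okMove (reps : List (List ℕ)) (L w : List ℕ) (j : ℕ) : Bool :=
  L.all (fun i => Nat.blt i T.l) && w.all (fun a => Nat.blt a T.n) && Nat.blt j reps.length &&
    (w.map (actT T L)).isPerm (reps.getD j [])

/-- The representatives are orthogonal sets of roots. -/
noncomputable def okReps (reps : List (List ℕ)) : Bool :=
  reps.all fun S => S.all (fun a => Nat.blt a T.n) &&
    S.all fun a => S.all fun b => Nat.beq a b || Nat.beq (ipC T a b) 10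

/-- The extensions of one representative. -/
noncomputable def okExt1 (reps : List (List ℕ)) (S : List ℕ) (e : List (ℕ × List ℕ × ℕ)) : Bool :=
  allBelow (fun r => !(S.all fun b => Nat.beq (ipC T r b) 10) ||
    e.any fun p => Nat.beq p.1 r && okMove T reps p.2.1 (r :: S) p.2.2) T.n

/-- The extensions of all representatives. -/
noncomputable def okExt (reps : List (List ℕ)) (ext : List (List (ℕ × List ℕ × ℕ))) : Bool :=
  allBelow (fun i => okExt1 T reps (reps.getD i []) (ext.getD i [])) reps.length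

/-- The reductions. -/
noncomputable def okRed (reps : List (List ℕ)) (cls : List ℕ) (red : List (List ℕ × List ℕ × ℕ)) : Bool :=
  (reps.getD 0 []).isEmpty && allBelow (fun i => Nat.beq i 0 || cls.contains i ||
    (let e := red.getD i ([], [], 0)
     match norm T (reps.getD i []) with
     | none => false
     | some w0 => match conjS T e.1 w0 with
       | none => false
       | some w => Nat.blt w.length (reps.getD i []).length && okMove T reps e.2.1 w e.2.2)) reps.length

variable {T} {D : ChevalleyDatum} (H : AllOK D T) (hS : okSL T = true) (hE : okSame T = true)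
variable {F : Type u} [Field F] [CharP F 2]

/-- Conjugacy inside the group. -/
def Conj (D : ChevalleyDatum) (g h : GL D.Idx F) : Prop := ∃ k ∈ D.group F, k * g * k⁻¹ = h

omit [CharP F 2] in
theorem conj_trans {a b c : GL D.Idx F} (h1 : Conj D a b) (h2 : Conj D b c) : Conj D a c := by
  obtain ⟨k, hk, e⟩ := h1
  obtain ⟨l, hl, e'⟩ := h2
  exact ⟨l * k, mul_mem hl hk, by rw [← e', ← e]; group⟩

omit [CharP F 2] in
theorem span_le_group (C : Cert.{u} D) (P : ℕ → Prop) : spanGroup D F P ≤ D.group F :=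
  C.span_le fun r _ t => C.xu_mem_group r t

include hS

theorem ip_eq_ten {a b : ℕ} (ha : a < D.nroots) (hb : b < D.nroots) (h : ipC T a b = 10) :
    ip (AllOK.cert.{u} H) a b = 0 := by
  rw [ipC_eq H ha hb (by omega), h]; norm_num

theorem ten_of_ip {a b : ℕ} (ha : a < D.nroots) (hb : b < D.nroots) (h : ip (AllOK.cert.{u} H) a b = 0) :
    ipC T a b = 10 := by
  have := ipC_of.{u} H hS ha hb ((sl_of_check H hS).ne_of_ip ha (by omega))
  omega

/-- A representative is a set of commuting letters. -/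
theorem rep_commute {reps : List (List ℕ)} (hR : okReps T reps = true) {S : List ℕ} (hm : S ∈ reps) :
    (∀ a ∈ S, a < D.nroots) ∧
      (∀ a ∈ S, ∀ b ∈ S, Commute ((AllOK.cert.{u} H).xu a (1 : F)) ((AllOK.cert.{u} H).xu b 1)) := by
  have h := List.all_eq_true.1 hR S hm
  simp only [Bool.and_eq_true, List.all_eq_true, Bool.or_eq_true, Nat.blt_eq, Nat.beq_eq, H.basic.nroots_eq.symm] at h
  refine ⟨h.1, fun a ha b hb => ?_⟩
  rcases h.2 a ha b hb with e | e
  · subst e; exact Commute.refl _
  · exact (sl_of_check H hS).commute_orth (h.1 a ha) (h.1 b hb) (ip_eq_ten H hS (h.1 a ha) (h.1 b hb) e) 1 1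

theorem move {reps : List (List ℕ)} (hR : okReps T reps = true) {L w : List ℕ} {j : ℕ}
    (hM : okMove T reps L w j = true) :
    j < reps.length ∧ (∀ i ∈ L, i < D.rank) ∧ (∀ a ∈ w, a < D.nroots) ∧
      (w.map (act D L)).Perm (reps.getD j []) ∧ Conj D (W H w : GL D.Idx F) (W H (reps.getD j [])) := by
  simp only [okMove, Bool.and_eq_true, List.all_eq_true, Nat.blt_eq, List.isPerm_iff] at hM
  obtain ⟨⟨⟨hL, hw⟩, hj⟩, hp⟩ := hM
  have hL' : ∀ i ∈ L, i < D.rank := fun i hi => H.basic.rank_eq ▸ hL i hi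
  have hw' : ∀ a ∈ w, a < D.nroots := fun a ha => H.basic.nroots_eq ▸ hw a ha
  have hact : w.map (actT T L) = w.map (act D L) := List.map_congr_left fun a ha => (actT_eq H hL' (hw' a ha)).symm
  rw [hact] at hp
  refine ⟨hj, hL', hw', hp, ?_⟩
  set C := AllOK.cert.{u} H
  have hmem : reps.getD j [] ∈ reps := by rw [List.getD_eq_getElem _ _ hj]; exact List.getElem_mem hj
  obtain ⟨-, hc⟩ := rep_commute (F := F) H hS hR hmem
  refine ⟨C.nWordElt F L, C.monomial_le_group (C.nWordElt_mem hL'), ?_⟩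
  have key : ∀ v : List ℕ, (∀ a ∈ v, a < D.nroots) →
      C.nWordElt F L * W H v * (C.nWordElt F L)⁻¹ = (W H (v.map (act D L)) : GL D.Idx F) := by
    intro v
    induction v with
    | nil => intro _; rw [List.map_nil, W_nil, mul_one, mul_inv_cancel]
    | cons a v ih =>
      intro hv
      obtain ⟨ha, hv⟩ := List.forall_mem_cons.1 hv
      rw [List.map_cons, W_cons, W_cons, ← ih hv, ← C.conj_xu_two hL' ha (1 : F)]
      simp only [C]; group
  rw [key w hw']
  have hP : ((w.map (act D L)).map fun a => (a, (1 : F))).Perm ((reps.getD j []).map fun a => (a, (1 : F))) :=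
    hp.map _
  rw [W, W, Cert.wu, Cert.wu]
  refine (hP.map _).prod_eq' (List.pairwise_of_forall_mem_list fun x hx y hy => ?_)
  simp only [List.map_map, List.mem_map] at hx hy
  obtain ⟨a, ha, rfl⟩ := hx
  obtain ⟨b, hb, rfl⟩ := hy
  exact hc _ (hp.subset (List.mem_map_of_mem ha)) _ (hp.subset (List.mem_map_of_mem hb))

include hE

theorem ip_act {L : List ℕ} (hL : ∀ i ∈ L, i < D.rank) {r s : ℕ} (hr : r < D.nroots) (hs : s < D.nroots) :
    ip (AllOK.cert.{u} H) (act D L r) (act D L s) = ip (AllOK.cert.{u} H) r s := by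
  have key : ∀ a < D.nroots, ∀ b, ip (AllOK.cert.{u} H) a b = pairInt D a b := by
    intro a ha b
    rw [ip, Cert.pairInt_eq]
    refine Finset.sum_congr rfl fun k hk => ?_
    rw [Finset.mem_range] at hk
    have hk' : k < T.l := H.basic.rank_eq ▸ hk
    have ha' : a < T.n := H.basic.nroots_eq ▸ ha
    rw [H.basic.coroot_eq ha' hk']
    congr 1
    show (T.coefC a k : ℤ) - 8 = (T.corC a k : ℤ) - 8
    rw [Nat.eq_of_beq_eq_true ((allBelow_iff _ _).1 ((allBelow_iff _ _).1 hE a ha') k hk')]
  rw [key _ ((AllOK.cert.{u} H).act_lt hL hr), key r hr, (AllOK.cert.{u} H).pairInt_act hL hr hs]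

/-- An orthogonal list is moved onto a representative. -/
theorem to_rep {reps : List (List ℕ)} {ext : List (List (ℕ × List ℕ × ℕ))} (hR : okReps T reps = true)
    (hX : okExt T reps ext = true) (h0 : reps.getD 0 [] = []) (hlen : 0 < reps.length) :
    ∀ Z : List ℕ, (∀ a ∈ Z, a < D.nroots) → Z.Pairwise (fun a b => ip (AllOK.cert.{u} H) a b = 0) →
      ∃ L i, i < reps.length ∧ (∀ x ∈ L, x < D.rank) ∧ (Z.map (act D L)).Perm (reps.getD i []) ∧
        Conj D (W H Z : GL D.Idx F) (W H (reps.getD i [])) := by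
  intro Z
  induction Z with
  | nil =>
    intro _ _
    exact ⟨[], 0, hlen, by simp, by rw [h0, List.map_nil], ⟨1, one_mem _, by rw [h0]; group⟩⟩
  | cons z Z ih =>
    intro hlt hpw
    obtain ⟨hz, hlt⟩ := List.forall_mem_cons.1 hlt
    obtain ⟨hzZ, hpw⟩ := List.pairwise_cons.1 hpw
    obtain ⟨L, i, hi, hL, hp, -⟩ := ih hlt hpw
    set C := AllOK.cert.{u} H
    have hz' : act D L z < T.n := H.basic.nroots_eq ▸ C.act_lt hL hz
    have hXi := (allBelow_iff _ _).1 ((allBelow_iff _ _).1 hX i hi) _ hz'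
    have hall : ((reps.getD i []).all fun b => Nat.beq (ipC T (act D L z) b) 10) = true := by
      rw [List.all_eq_true]
      intro b hb
      obtain ⟨a, ha, rfl⟩ := List.mem_map.1 (hp.symm.subset hb)
      rw [ten_of_ip.{u} H hS (C.act_lt hL hz) (C.act_lt hL (hlt a ha)) (by
        rw [ip_act H hS hE hL hz (hlt a ha)]; exact hzZ a ha)]
      rfl
    rw [hall] at hXi
    simp only [Bool.not_true, Bool.false_or, List.any_eq_true, Bool.and_eq_true] at hXi
    obtain ⟨p, -, hp1, hM⟩ := hXi
    obtain ⟨hj, hL', -, hp', -⟩ := move (F := F) H hS hR hM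
    have hLL : ∀ x ∈ p.2.1 ++ L, x < D.rank := fun x hx => (List.mem_append.1 hx).elim (hL' x) (hL x)
    have hperm : ((z :: Z).map (act D (p.2.1 ++ L))).Perm (reps.getD p.2.2 []) := by
      have e : (z :: Z).map (act D (p.2.1 ++ L)) = ((z :: Z).map (act D L)).map (act D p.2.1) := by
        rw [List.map_map]; exact List.map_congr_left fun a _ => act_append _ _ _
      rw [e]
      refine List.Perm.trans ?_ hp'
      rw [List.map_cons (f := act D L), List.map_cons, List.map_cons]
      exact (hp.map _).cons _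
    refine ⟨_, _, hj, hLL, hperm, ?_⟩
    refine (move (F := F) H hS hR (L := p.2.1 ++ L) (w := z :: Z) (j := p.2.2) ?_).2.2.2.2
    simp only [okMove, Bool.and_eq_true, List.all_eq_true, Nat.blt_eq, List.isPerm_iff]
    refine ⟨⟨⟨fun x hx => H.basic.rank_eq ▸ hLL x hx, fun a ha => H.basic.nroots_eq ▸ ?_⟩, hj⟩, ?_⟩
    · rcases List.mem_cons.1 ha with rfl | ha
      · exact hz
      · exact hlt a ha
    · rw [List.map_congr_left (g := act D (p.2.1 ++ L)) fun a ha => (actT_eq H hLL (by
        rcases List.mem_cons.1 ha with rfl | ha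
        · exact hz
        · exact hlt a ha)).symm]
      exact hperm

omit hE in
/-- The reductions end at a class. -/
theorem to_cls {reps : List (List ℕ)} {cls : List ℕ} {red : List (List ℕ × List ℕ × ℕ)} (hR : okReps T reps = true)
    (hD : okRed T reps cls red = true) : ∀ n i, i < reps.length → (reps.getD i []).length = n →
    (W H (reps.getD i []) : GL D.Idx F) ≠ 1 →
      ∃ j ∈ cls, Conj D (W H (reps.getD i []) : GL D.Idx F) (W H (reps.getD j [])) := by
  simp only [okRed, Bool.and_eq_true, List.isEmpty_iff] at hD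
  obtain ⟨h0, hD⟩ := hD
  intro n
  induction n using Nat.strong_induction_on with
  | _ n ih =>
  intro i hi hn hne
  by_cases hc : i ∈ cls
  · exact ⟨i, hc, 1, one_mem _, by group⟩
  by_cases hi0 : i = 0
  · subst hi0; rw [h0] at hne; exact absurd (W_nil H) hne
  have h := (allBelow_iff _ _).1 hD i hi
  simp only [Bool.or_eq_true, List.contains_iff_mem, Nat.beq_eq, hi0, hc, false_or] at h
  generalize hnw : norm T (reps.getD i []) = o at h
  cases o with
  | none => simp at h
  | some w0 =>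
    simp only at h
    generalize hcw : conjS T (red.getD i ([], [], 0)).1 w0 = o2 at h
    cases o2 with
    | none => simp at h
    | some w =>
      simp only [Bool.and_eq_true, Nat.blt_eq] at h
      obtain ⟨hlt, hM⟩ := h
      obtain ⟨hj, -, -, hp, hconj⟩ := move (F := F) H hS hR hM
      obtain ⟨k, hk, e⟩ := conjS_sound (F := F) H hS _ _ _ hcw
      rw [norm_sound (F := F) H hS _ _ hnw] at e
      have hc1 : Conj D (W H (reps.getD i []) : GL D.Idx F) (W H (reps.getD (red.getD i ([], [], 0)).2.2 [])) :=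
        conj_trans ⟨k, hk, e⟩ hconj
      obtain ⟨j, hj', hcj⟩ := ih _ (by rw [← hp.length_eq, List.length_map]; omega) _ hj rfl (fun h1 => hne (by
        obtain ⟨l, -, el⟩ := hc1
        rw [h1] at el
        exact (conj_eq_one_iff).1 el))
      exact ⟨j, hj', conj_trans hc1 hcj⟩

omit hS hE in
/-- The torus sets all parameters of an orthogonal product to one. -/
theorem scale [Finite F] (hS : okSL T = true) (hE : okSame T = true) : ∀ (Z : List (ℕ × F)),
    Orth (AllOK.cert.{u} H) [] Z → (∀ p ∈ Z, p.2 ≠ 0) →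
    ∃ k ∈ D.group F, k * (AllOK.cert.{u} H).wu Z * k⁻¹ = W H (Z.map Prod.fst) ∧
      ∀ a < D.nroots, (∀ p ∈ Z, ip (AllOK.cert.{u} H) p.1 a = 0) → ∀ t : F,
        Commute k ((AllOK.cert.{u} H).xu a t) := by
  intro Z
  induction Z with
  | nil => intro _ _; exact ⟨1, one_mem _, by simp [Cert.wu, W], fun a _ _ t => Commute.one_left _⟩
  | cons p Z ih =>
    intro hZ hne
    set C := AllOK.cert.{u} H
    have S : SL C := sl_of_check H hS
    obtain ⟨h1, h2⟩ := hZ
    obtain ⟨hp, hZ'⟩ := List.forall_mem_cons.1 h1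
    obtain ⟨hpz, hpw⟩ := List.pairwise_cons.1 h2
    obtain ⟨hp0, hne'⟩ := List.forall_mem_cons.1 hne
    obtain ⟨k, hk, e, hcm⟩ := ih ⟨hZ', hpw⟩ hne'
    obtain ⟨s, hs⟩ : IsSquare p.2⁻¹ :=
      FiniteField.isSquare_of_char_two (ringChar.eq_iff.mpr inferInstance : ringChar F = 2) _
    have hs0 : s ≠ 0 := fun h => inv_ne_zero hp0 (by rw [hs, h, mul_zero])
    have hpair : ∀ b, pairInt D p.1 b = ip C p.1 b := fun b => by
      rw [ip, Cert.pairInt_eq]
      refine Finset.sum_congr rfl fun i hi => ?_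
      rw [Finset.mem_range] at hi
      have hi' : i < T.l := H.basic.rank_eq ▸ hi
      have ha' : p.1 < T.n := H.basic.nroots_eq ▸ hp.1.1
      rw [H.basic.coroot_eq ha' hi']
      congr 1
      show (T.corC p.1 i : ℤ) - 8 = (T.coefC p.1 i : ℤ) - 8
      rw [Nat.eq_of_beq_eq_true ((allBelow_iff _ _).1 ((allBelow_iff _ _).1 hE p.1 ha') i hi')]
    set n := C.hu p.1 s
    have hn : n ∈ D.group F := C.diagonal_le_group (C.hu_simple_mem_diagonal hp.1.1 hs0)
    have hnc : ∀ a < D.nroots, ip C p.1 a = 0 → ∀ t : F, Commute n (C.xu a t) := fun a ha h0 t => by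
      have := C.hu_conj_xu hp.1.1 ha hs0 t
      rw [pairChar, hpair, h0, zpow_zero, one_mul] at this
      exact this
    have hhead : n * C.xu p.1 p.2 * n⁻¹ = C.xu p.1 1 := by
      rw [mul_inv_eq_iff_eq_mul, C.hu_conj_xu hp.1.1 hp.1.1 hs0, pairChar, hpair, S.self _ hp.1.1, zpow_two,
        ← hs, inv_mul_cancel₀ hp0]
    have hnW : Commute n (W H (Z.map Prod.fst) : GL D.Idx F) := by
      refine wu_comm_of S fun q hq => ?_
      simp only [List.map_map, List.mem_map] at hq
      obtain ⟨x, hx, rfl⟩ := hq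
      exact hnc _ (hZ' x hx).1.1 (hpz x hx) _
    refine ⟨n * k, mul_mem hn hk, ?_, fun a ha h0 t => ?_⟩
    · have hkp : Commute k (C.xu p.1 p.2) := hcm p.1 hp.1.1 (fun q hq => by
        rw [S.symm _ (hZ' q hq).1.1 p.1 hp.1.1]; exact hpz q hq) _
      rw [List.map_cons, W_cons, C.wu_cons, ← hhead,
        show n * k * (C.xu p.1 p.2 * C.wu Z) * (n * k)⁻¹ = n * (k * C.xu p.1 p.2 * k⁻¹) * (k * C.wu Z * k⁻¹) * n⁻¹ by
          group, hkp.eq, mul_inv_cancel_right, e, mul_assoc _ (W H _) n⁻¹, ← (hnW.inv_left).eq, ← mul_assoc]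
    · exact (hnc a ha (h0 p List.mem_cons_self) t).mul_left (hcm a ha (fun q hq => h0 q (List.mem_cons_of_mem _ hq)) t)

omit hS hE in
/-- The involutions of the group are conjugate to the listed ones. -/
theorem cover [Fintype F] (hS : okSL T = true) (hE : okSame T = true) {reps : List (List ℕ)} {cls : List ℕ}
    {ext : List (List (ℕ × List ℕ × ℕ))} {red : List (List ℕ × List ℕ × ℕ)} (hR : okReps T reps = true)
    (hX : okExt T reps ext = true) (hD : okRed T reps cls red = true) (hlen : 0 < reps.length)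
    {c M : ℕ} (hM : ¬ 2 ∣ M)
    (hord : c * Nat.card ↥(D.group F) = Fintype.card F ^ (D.nroots / 2) * M)
    {g : GL D.Idx F} (hg : g ∈ D.group F) (h2 : orderOf g = 2) :
    ∃ j ∈ cls, Conj D g (W H (reps.getD j [])) := by
  classical
  set C := AllOK.cert.{u} H
  have S : SL C := sl_of_check H hS
  have h0 : reps.getD 0 [] = [] := by
    simp only [okRed, Bool.and_eq_true, List.isEmpty_iff] at hD; exact hD.1
  have : Fact (Nat.Prime 2) := ⟨Nat.prime_two⟩
  have hU : D.posUnipotent F ≤ D.group F := C.pos_le_borel.trans C.borel_le_group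
  obtain ⟨P, hP⟩ := IsPGroup.exists_le_sylow (p := 2)
    (LeadWork.ChevField.isPGroup_pos C 2 |>.of_equiv (Subgroup.subgroupOfEquivOfLe hU).symm)
  have hPU : (P : Subgroup (D.group F)) = (D.posUnipotent F).subgroupOf (D.group F) := by
    symm
    refine Subgroup.eq_of_le_of_card_ge hP ?_
    obtain ⟨n, hn⟩ := IsPGroup.iff_card.1 P.isPGroup'
    have hd := dvd_trans (Subgroup.card_subgroup_dvd_card (P : Subgroup (D.group F))) (dvd_mul_left _ c)
    rw [hord, hn] at hd
    rw [hn, Nat.card_congr (Subgroup.subgroupOfEquivOfLe hU).toEquiv, C.natCard_posUnipotent]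
    exact Nat.le_of_dvd (pow_pos Fintype.card_pos _)
      ((((Nat.prime_two.coprime_iff_not_dvd).2 hM).pow_left n).dvd_of_dvd_mul_right hd)
  set G0 : D.group F := ⟨g, hg⟩
  obtain ⟨Q, hQ⟩ := IsPGroup.exists_le_sylow (p := 2) (show IsPGroup 2 (Subgroup.zpowers G0) from
    IsPGroup.of_card (n := 1) (by rw [Nat.card_zpowers, ← Subgroup.orderOf_coe, pow_one]; exact h2))
  obtain ⟨k, hk⟩ := MulAction.exists_smul_eq (D.group F) Q P
  have hmem : k * G0 * k⁻¹ ∈ (P : Subgroup (D.group F)) := by
    rw [← hk, Sylow.coe_subgroup_smul]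
    exact Subgroup.smul_mem_pointwise_smul G0 (MulAut.conj k) _ (hQ (Subgroup.mem_zpowers G0))
  rw [hPU, Subgroup.mem_subgroupOf] at hmem
  have hg2 : g * g = 1 := by rw [← pow_two, ← h2]; exact pow_orderOf_eq_one g
  set g' : GL D.Idx F := (k : GL D.Idx F) * g * (k : GL D.Idx F)⁻¹
  have hsq : g' * g' = 1 := by
    rw [show g' * g' = (k : GL D.Idx F) * (g * g) * (k : GL D.Idx F)⁻¹ by simp only [g']; group, hg2]; group
  have hg' : g' ∈ spanGroup D F (Pos C []) := by
    have : D.posUnipotent F ≤ spanGroup D F (Pos C []) := by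
      rw [← Cert.span_pos]; exact C.span_mono fun r hr => ⟨hr, by simp⟩
    exact this (by simpa [G0, g'] using hmem)
  obtain ⟨h, hh, Z, hZ, e⟩ := reduce S _ [] rfl g' hg' hsq
  obtain ⟨Z1, hZ1, hne, eZ⟩ := Orth.drop_zero S hZ
  rw [← eZ] at e
  obtain ⟨l, hl, el, -⟩ := scale H hS hE Z1 hZ1 hne
  obtain ⟨L, i, hi, -, -, hc⟩ := to_rep (F := F) H hS hE hR hX h0 hlen (Z1.map Prod.fst)
    (fun a ha => by obtain ⟨p, hp, rfl⟩ := List.mem_map.1 ha; exact (hZ1.1 p hp).1.1)
    (List.pairwise_map.2 hZ1.2)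
  have c1 : Conj D g (W H (reps.getD i [])) :=
    conj_trans ⟨k, k.2, rfl⟩ (conj_trans ⟨h, span_le_group C _ hh, e⟩ (conj_trans ⟨l, hl, el⟩ hc))
  have hne1 : (W H (reps.getD i []) : GL D.Idx F) ≠ 1 := fun h1 => by
    obtain ⟨x, -, ex⟩ := c1
    rw [h1] at ex
    rw [(conj_eq_one_iff).1 ex, orderOf_one] at h2
    omega
  obtain ⟨j, hj, hcj⟩ := to_cls (F := F) H hS hR hD _ i hi rfl hne1
  exact ⟨j, hj, conj_trans c1 hcj⟩

end Cfsg.Agent.Suzuki.SLInv
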