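import Cfsg.Agent.Suzuki.SLInv.Base

/-! # Involutions of the unipotent group are conjugate to orthogonal products of root elements -/

set_option autoImplicit false
set_option linter.unusedSectionVars false
set_option maxHeartbeats 1000000

universe u

namespace Cfsg.Agent.Suzuki.SLInv

open Cfsg.Lie Cfsg.Agent.Chev

variable {D : ChevalleyDatum} {C : Cert.{u} D}

/-- A highest root in the positive roots orthogonal to `Y`. -/
structure Top (C : Cert.{u} D) (Y : List ℕ) (ρ : ℕ) : Prop where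
  pos : Pos C Y ρ
  dom : ∀ r, Pos C Y r → 0 ≤ ip C r ρ

/-- The roots of the radical attached to `ρ`. -/
def Rad (C : Cert.{u} D) (Y : List ℕ) (ρ r : ℕ) : Prop := Perp C Y r ∧ 1 ≤ ip C r ρ

open Classical in
/-- The roots of the radical other than `ρ`. -/
noncomputable def Lst (C : Cert.{u} D) (Y : List ℕ) (ρ : ℕ) : List ℕ :=
  D.posRoots.filter fun r => decide (Rad C Y ρ r ∧ r ≠ ρ)

/-- A list of pairwise orthogonal positive roots orthogonal to `Y`. -/
def Orth (C : Cert.{u} D) {F : Type u} (Y : List ℕ) (Z : List (ℕ × F)) : Prop :=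
  (∀ p ∈ Z, Pos C Y p.1) ∧ Z.Pairwise fun p q => ip C p.1 q.1 = 0

variable {F : Type u} [Field F] [CharP F 2]

/-- Ordered product over the radical. -/
noncomputable def E (C : Cert.{u} D) (Y : List ℕ) (ρ : ℕ) (f : ℕ → F) : GL D.Idx F :=
  C.wu ((Lst C Y ρ).map fun r => (r, f r))

/-- `g` has coordinates `f` modulo the centre. -/
def Mo (C : Cert.{u} D) (Y : List ℕ) (ρ : ℕ) (g : GL D.Idx F) (f : ℕ → F) : Prop :=
  (∀ r, r ∉ Lst C Y ρ → f r = 0) ∧ ∃ z, g = E C Y ρ f * C.xu ρ z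

open Classical in
/-- The linear part of conjugation by a root element. -/
noncomputable def Nop (C : Cert.{u} D) (Y : List ℕ) (ρ c : ℕ) (f : ℕ → F) (d : ℕ) : F :=
  if d ∈ Lst C Y ρ then ∑ b ∈ (Lst C Y ρ).toFinset, if IsSum C b c d then f b else 0 else 0

/-- The action of a root element on coordinates. -/
noncomputable def Top' (C : Cert.{u} D) (Y : List ℕ) (ρ c : ℕ) (s : F) (f : ℕ → F) : ℕ → F :=
  fun d => f d + s * Nop C Y ρ c f d

/-- The action of a word on coordinates. -/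
noncomputable def opW (C : Cert.{u} D) (Y : List ℕ) (ρ : ℕ) : List (ℕ × F) → (ℕ → F) → ℕ → F
  | [], f => f
  | p :: l, f => Top' C Y ρ p.1 p.2 (opW C Y ρ l f)

namespace Top

variable (H : SL C) {Y : List ℕ} {ρ : ℕ} (T : Top C Y ρ)
include H T

theorem rho_lt : ρ < D.nroots := T.pos.1.1

theorem rad_rho : Rad C Y ρ ρ := ⟨T.pos.perp, by rw [H.self ρ T.pos.1.1]; norm_num⟩

theorem rad_pos {r : ℕ} (h : Rad C Y ρ r) : Pos C Y r := by
  refine ⟨?_, h.1.2⟩
  rcases C.posRoot_or_negRoot h.1.1 with hp | hn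
  · exact hp
  · have := T.dom (D.neg r) ⟨C.posRoot_neg hn, fun y hy => by rw [ip_neg h.1.1, h.1.2 y hy, neg_zero]⟩
    rw [ip_neg h.1.1] at this
    have := h.2
    omega

theorem mem_L {r : ℕ} : r ∈ Lst C Y ρ ↔ Rad C Y ρ r ∧ r ≠ ρ := by
  simp only [Lst, List.mem_filter, decide_eq_true_eq]
  exact ⟨fun h => h.2, fun h => ⟨Cert.mem_posRoots.2 (T.rad_pos H h.1).1, h⟩⟩

theorem L_lt {r : ℕ} (h : r ∈ Lst C Y ρ) : r < D.nroots := ((T.mem_L H).1 h).1.1.1

theorem grade {r : ℕ} (h : r ∈ Lst C Y ρ) : ip C r ρ = 1 := by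
  obtain ⟨⟨hp, h1⟩, hne⟩ := (T.mem_L H).1 h
  have h2 := H.ip_le_two hp.1 (T.rho_lt H)
  have : ip C r ρ ≠ 2 := fun e => hne (H.eq_of_ip_two hp.1 (T.rho_lt H) e).symm
  omega

theorem mem_of_grade {r : ℕ} (h : Perp C Y r) (h1 : ip C r ρ = 1) : r ∈ Lst C Y ρ :=
  (T.mem_L H).2 ⟨⟨h, h1.ge⟩, fun e => by subst e; rw [H.self r h.1] at h1; norm_num at h1⟩

theorem ne_neg {a b : ℕ} (ha : Rad C Y ρ a) (hb : Rad C Y ρ b) : b ≠ D.neg a := by
  intro e
  have := hb.2
  rw [e, ip_neg ha.1.1] at this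
  have := ha.2
  omega

theorem central {a : ℕ} (ha : Rad C Y ρ a) (t z : F) : Commute (C.xu ρ z) (C.xu a t) := by
  refine H.commute (T.rho_lt H) ha.1.1 (T.ne_neg H (T.rad_rho H) ha) ?_ _ _
  rw [H.symm ρ (T.rho_lt H) a ha.1.1]
  have := ha.2
  omega

theorem central_E (f : ℕ → F) (z : F) : Commute (C.xu ρ z) (E C Y ρ f) := by
  refine Commute.list_prod_right _ _ fun x hx => ?_
  simp only [List.map_map, List.mem_map] at hx
  obtain ⟨r, hr, rfl⟩ := hx
  exact T.central H ((T.mem_L H).1 hr).1 _ _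

theorem swap {a b : ℕ} (ha : a ∈ Lst C Y ρ) (hb : b ∈ Lst C Y ρ) (s t : F) :
    ∃ z, C.xu a s * C.xu b t = C.xu b t * C.xu a s * C.xu ρ z := by
  have ra := ((T.mem_L H).1 ha).1
  have rb := ((T.mem_L H).1 hb).1
  by_cases h : ip C a b = -1
  · have h' : ip C b a = -1 := by rw [H.symm b (T.L_lt H hb) a (T.L_lt H ha), h]
    obtain ⟨d, hd⟩ := H.exists_sum (T.L_lt H hb) (T.L_lt H ha) h'
    have : d = ρ := by
      refine (H.eq_of_ip_two hd.1 (T.rho_lt H) ?_).symm
      rw [hd.ip_eq, T.grade H ha, T.grade H hb]; norm_num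
    subst this
    refine ⟨s * t, ?_⟩
    have e := H.conj_sum (T.L_lt H ha) (T.L_lt H hb) hd h' s t
    have e2 : C.xu a s * C.xu b t = C.xu b t * C.xu d (s * t) * C.xu a s := by
      rw [← e, mul_assoc (_ * _), SL.sq_one H, mul_one]
    rw [e2, mul_assoc, (T.central H ra _ _).eq, ← mul_assoc]
  · exact ⟨0, by rw [C.xu_zero, mul_one]; exact (H.commute (T.L_lt H ha) (T.L_lt H hb) (T.ne_neg H ra rb) h s t).eq⟩

theorem past {a : ℕ} (ha : a ∈ Lst C Y ρ) (s : F) : ∀ l : List (ℕ × F), (∀ p ∈ l, p.1 ∈ Lst C Y ρ) →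
    ∃ z, C.xu a s * C.wu l = C.wu l * C.xu a s * C.xu ρ z
  | [], _ => ⟨0, by simp [Cert.wu, C.xu_zero]⟩
  | p :: l, hl => by
    obtain ⟨hp, hl⟩ := List.forall_mem_cons.1 hl
    obtain ⟨z, e⟩ := past ha s l hl
    obtain ⟨w, e'⟩ := T.swap H ha hp s p.2
    have hc : ∀ v, Commute (C.xu ρ v) (C.wu l) := fun v => by
      refine Commute.list_prod_right _ _ fun x hx => ?_
      simp only [List.mem_map] at hx
      obtain ⟨r, hr, rfl⟩ := hx
      exact T.central H ((T.mem_L H).1 (hl r hr)).1 _ _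
    refine ⟨z + w, ?_⟩
    rw [C.wu_cons, ← mul_assoc, e', mul_assoc _ (C.xu ρ w), (hc w).eq, ← mul_assoc,
      mul_assoc (C.xu p.1 p.2) _ (C.wu l), e, ← C.xu_add]
    simp only [mul_assoc]

theorem wu_mul (f f' : ℕ → F) : ∀ l : List ℕ, (∀ r ∈ l, r ∈ Lst C Y ρ) →
    ∃ z, C.wu (l.map fun r => (r, f r)) * C.wu (l.map fun r => (r, f' r)) =
      C.wu (l.map fun r => (r, f r + f' r)) * C.xu ρ z
  | [], _ => ⟨0, by simp [Cert.wu, C.xu_zero]⟩
  | a :: l, hl => by
    obtain ⟨ha, hl⟩ := List.forall_mem_cons.1 hl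
    obtain ⟨z, e⟩ := wu_mul f f' l hl
    obtain ⟨w, e'⟩ := T.past H ha (f' a) (l.map fun r => (r, f r)) (by simpa using hl)
    have hc : Commute (C.xu ρ w) (C.wu (l.map fun r => (r, f' r))) := by
      refine Commute.list_prod_right _ _ fun x hx => ?_
      simp only [List.map_map, List.mem_map] at hx
      obtain ⟨r, hr, rfl⟩ := hx
      exact T.central H ((T.mem_L H).1 (hl r hr)).1 _ _
    refine ⟨z - w, ?_⟩
    simp only [List.map_cons, C.wu_cons]
    have e2 : C.wu (l.map fun r => (r, f r)) * C.xu a (f' a) =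
        C.xu a (f' a) * C.wu (l.map fun r => (r, f r)) * C.xu ρ (-w) := by
      rw [e', mul_assoc (_ * _), C.xu_add, add_neg_cancel, C.xu_zero, mul_one]
    have hcn : Commute (C.xu ρ (-w)) (C.wu (l.map fun r => (r, f' r))) := by
      rw [← C.xu_inv]; exact hc.inv_left
    calc C.xu a (f a) * C.wu (l.map fun r => (r, f r)) * (C.xu a (f' a) * C.wu (l.map fun r => (r, f' r)))
        = C.xu a (f a) * (C.wu (l.map fun r => (r, f r)) * C.xu a (f' a)) * C.wu (l.map fun r => (r, f' r)) := by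
          group
      _ = C.xu a (f a) * C.xu a (f' a) * ((C.wu (l.map fun r => (r, f r)) * C.wu (l.map fun r => (r, f' r))) *
          C.xu ρ (-w)) := by rw [e2]; simp only [mul_assoc, hcn.eq]
      _ = _ := by rw [e, C.xu_add]; simp only [mul_assoc, C.xu_add, sub_eq_add_neg]

theorem mo_mul {g g' : GL D.Idx F} {f f' : ℕ → F} (h : Mo C Y ρ g f) (h' : Mo C Y ρ g' f') :
    Mo C Y ρ (g * g') (f + f') := by
  obtain ⟨h0, z, rfl⟩ := h
  obtain ⟨h0', z', rfl⟩ := h'
  refine ⟨fun r hr => by simp [h0 r hr, h0' r hr], ?_⟩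
  obtain ⟨w, e⟩ := T.wu_mul H f f' (Lst C Y ρ) fun r hr => hr
  refine ⟨w + z + z', ?_⟩
  have : E C Y ρ f * E C Y ρ f' = E C Y ρ (f + f') * C.xu ρ w := e
  rw [mul_assoc, ← mul_assoc (C.xu ρ z), (T.central_E H f' z).eq, ← mul_assoc, ← mul_assoc, this]
  simp only [mul_assoc, C.xu_add]

theorem mo_rho (z : F) : Mo C Y ρ (C.xu ρ z) 0 := by
  refine ⟨fun r _ => rfl, z, ?_⟩
  have : E C Y ρ (0 : ℕ → F) = 1 := by
    refine List.prod_eq_one fun x hx => ?_
    simp only [List.map_map, List.mem_map] at hx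
    obtain ⟨r, -, rfl⟩ := hx
    exact C.xu_zero r
  rw [this, one_mul]

theorem mo_one : Mo C Y ρ (1 : GL D.Idx F) 0 := by
  have := T.mo_rho H (0 : F)
  rwa [C.xu_zero] at this

theorem mo_single {a : ℕ} (ha : a ∈ Lst C Y ρ) (t : F) :
    Mo C Y ρ (C.xu a t) (fun r => if r = a then t else 0) := by
  refine ⟨fun r hr => if_neg fun e => hr (by subst e; exact ha), 0, ?_⟩
  rw [C.xu_zero, mul_one, E, C.wu_single (L := Lst C Y ρ) ?_ ha]
  exact List.Nodup.filter _ Cert.nodup_posRoots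

theorem E_zero : E C Y ρ (0 : ℕ → F) = 1 := by
  refine List.prod_eq_one fun x hx => ?_
  simp only [List.map_map, List.mem_map] at hx
  obtain ⟨r, -, rfl⟩ := hx
  exact C.xu_zero r

theorem mo_inv {g : GL D.Idx F} {f : ℕ → F} (hf : Mo C Y ρ g f) : Mo C Y ρ g⁻¹ f := by
  obtain ⟨h0, z, rfl⟩ := id hf
  obtain ⟨-, w, e⟩ := T.mo_mul H hf hf
  rw [show f + f = 0 from funext fun r => CharTwo.add_self_eq_zero (f r), T.E_zero H, one_mul] at e
  refine ⟨h0, z - w, inv_eq_of_mul_eq_one_right ?_⟩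
  rw [sub_eq_add_neg, ← C.xu_add, ← mul_assoc (E C Y ρ f), ← mul_assoc, e, C.xu_add, add_neg_cancel, C.xu_zero]

theorem mo_of_mem {g : GL D.Idx F} (hg : g ∈ spanGroup D F (Rad C Y ρ)) : ∃ f, Mo C Y ρ g f := by
  induction hg using Subgroup.closure_induction with
  | mem x hx =>
    obtain ⟨r, t, hr, e⟩ := hx
    rw [C.eq_xu.mp e]
    by_cases he : r = ρ
    · subst he; exact ⟨0, T.mo_rho H t⟩
    · exact ⟨_, T.mo_single H ((T.mem_L H).2 ⟨hr, he⟩) t⟩
  | one => exact ⟨0, T.mo_one H⟩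
  | mul x y _ _ ix iy =>
    obtain ⟨f, hf⟩ := ix
    obtain ⟨f', hf'⟩ := iy
    exact ⟨_, T.mo_mul H hf hf'⟩
  | inv x _ ix =>
    obtain ⟨f, hf⟩ := ix
    exact ⟨f, T.mo_inv H hf⟩

theorem mo_uniq {g : GL D.Idx F} {f f' : ℕ → F} (h : Mo C Y ρ g f) (h' : Mo C Y ρ g f') : f = f' := by
  have h1 := T.mo_mul H h (T.mo_inv H h')
  rw [mul_inv_cancel] at h1
  obtain ⟨h0, z, e⟩ := h1
  set k := f + f'
  have hk : C.prodU k = E C Y ρ k := by
    have key : ∀ l : List ℕ, C.wu (l.map fun r => (r, k r)) =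
        C.wu ((l.filter fun r => decide (r ∈ Lst C Y ρ)).map fun r => (r, k r)) := by
      intro l
      induction l with
      | nil => rfl
      | cons a l ih =>
        by_cases ha : a ∈ Lst C Y ρ
        · rw [List.filter_cons_of_pos (by simpa using ha), List.map_cons, List.map_cons, C.wu_cons, C.wu_cons, ih]
        · rw [List.filter_cons_of_neg (by simpa using ha), List.map_cons, C.wu_cons, ih, h0 a ha, C.xu_zero, one_mul]
    rw [Cert.prodU, key, E]
    congr 2
    classical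
    refine List.filter_congr fun r hr => ?_
    simp only [Lst, List.mem_filter, decide_eq_decide, decide_eq_true_eq]
    exact ⟨fun h => h.2, fun h => ⟨hr, h⟩⟩
  have e1 : C.prodU k = C.prodU fun r => if r = ρ then -z else 0 := by
    rw [C.prodU_single T.pos.1, hk, ← C.xu_inv]
    exact eq_inv_of_mul_eq_one_left e.symm
  funext r
  by_cases hr : r ∈ Lst C Y ρ
  · have := C.prodU_inj e1 r (T.rad_pos H ((T.mem_L H).1 hr).1).1
    rw [if_neg ((T.mem_L H).1 hr).2] at this
    exact CharTwo.add_eq_zero.1 this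
  · exact CharTwo.add_eq_zero.1 (h0 r hr)

theorem nop_eq {c b d : ℕ} (hb : b ∈ Lst C Y ρ) (hd : d ∈ Lst C Y ρ) (h : IsSum C b c d) (f : ℕ → F) :
    Nop C Y ρ c f d = f b := by
  classical
  rw [Nop, if_pos hd, Finset.sum_eq_single b, if_pos h]
  · intro b' hb' hne
    rw [List.mem_toFinset] at hb'
    exact if_neg fun h' => hne (IsSum.unique_left (T.L_lt H hb') (T.L_lt H hb) h' h)
  · intro hb'; exact absurd (List.mem_toFinset.2 hb) hb'

theorem sum_ip {c b d : ℕ} (hc : c < D.nroots) (hb : b < D.nroots) (h : IsSum C b c d)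
    (hcd : ip C d ρ = 1) (hc0 : ip C c ρ = 0) : ip C b c = -1 ∧ ip C d c = 1 := by
  have h1 := h.ip_eq c
  rw [H.self c hc] at h1
  have hd := H.ip_le_two h.1 hc
  have hd2 : ip C d c ≠ 2 := fun e => by
    have := H.eq_of_ip_two h.1 hc e
    subst this; omega
  have hb2 : b ≠ D.neg c := fun e => by
    have := h.ip_eq ρ
    rw [e, ip_neg hc, hc0] at this; omega
  by_cases hbc : b = c
  · subst hbc; rw [H.self b hb] at h1; omega
  have := (H.bound c hc b hb hbc hb2).1
  rw [H.symm c hc b hb] at this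
  omega

/-- No source: the coordinate does not move. -/
theorem nop_zero {c d : ℕ} (hc : c < D.nroots) (hc0 : ip C c ρ = 0) (h : ip C d c ≠ 1) (f : ℕ → F) :
    Nop C Y ρ c f d = 0 := by
  classical
  rw [Nop]
  split_ifs with hd
  · refine Finset.sum_eq_zero fun b hb => ?_
    rw [List.mem_toFinset] at hb
    exact if_neg fun h' => h (T.sum_ip H hc (T.L_lt H hb) h' (T.grade H hd) hc0).2
  · rfl

/-- The source of a coordinate. -/
theorem nop_src {c d : ℕ} (hc : Perp C Y c) (hc0 : ip C c ρ = 0) (hd : d ∈ Lst C Y ρ) (h : ip C d c = 1) :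
    ∃ b ∈ Lst C Y ρ, IsSum C b c d ∧ ∀ f : ℕ → F, Nop C Y ρ c f d = f b := by
  obtain ⟨b', hb''⟩ := H.exists_sum (T.L_lt H hd) (C.neg_lt c hc.1) (by rw [H.ip_neg_right (T.L_lt H hd) hc.1, h])
  have hbb : IsSum C b' c d := ⟨T.L_lt H hd, fun j hj => by
    have := hb''.2 j hj; rw [C.coef_neg c hc.1 j hj] at this; omega⟩
  have hbL : b' ∈ Lst C Y ρ := by
    refine T.mem_of_grade H ⟨hb''.1, fun y hy => ?_⟩ ?_
    · rw [hb''.ip_eq, ((T.mem_L H).1 hd).1.1.2 y hy, ip_neg hc.1, hc.2 y hy]; norm_num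
    · rw [hb''.ip_eq, T.grade H hd, ip_neg hc.1, hc0]; norm_num
  exact ⟨b', hbL, hbb, T.nop_eq H hbL hd hbb⟩

theorem nop_add {c : ℕ} (f g : ℕ → F) : Nop C Y ρ c (f + g) = Nop C Y ρ c f + Nop C Y ρ c g := by
  classical
  funext d
  simp only [Nop, Pi.add_apply]
  split_ifs
  · rw [← Finset.sum_add_distrib]
    refine Finset.sum_congr rfl fun b _ => ?_
    split_ifs <;> simp
  · simp

theorem nop_smul {c : ℕ} (s : F) (f : ℕ → F) (d : ℕ) : Nop C Y ρ c (fun r => s * f r) d = s * Nop C Y ρ c f d := by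
  classical
  simp only [Nop]
  split_ifs
  · rw [Finset.mul_sum]
    refine Finset.sum_congr rfl fun b _ => ?_
    split_ifs <;> simp
  · simp

theorem top_add {c : ℕ} (s : F) (f g : ℕ → F) :
    Top' C Y ρ c s (f + g) = Top' C Y ρ c s f + Top' C Y ρ c s g := by
  funext d
  simp only [Top', T.nop_add H, Pi.add_apply]
  ring

theorem top_sq {c : ℕ} (hc : Perp C Y c) (hc0 : ip C c ρ = 0) (s : F) (f : ℕ → F) :
    Top' C Y ρ c s (Top' C Y ρ c s f) = f := by
  have hN : ∀ d, Nop C Y ρ c (Nop C Y ρ c f) d = 0 := by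
    intro d
    by_cases h : d ∈ Lst C Y ρ ∧ ip C d c = 1
    · obtain ⟨b, hb, hs, e⟩ := T.nop_src H (F := F) hc hc0 h.1 h.2
      rw [e]
      refine T.nop_zero H hc.1 hc0 ?_ f
      rw [(T.sum_ip H hc.1 (T.L_lt H hb) hs (T.grade H h.1) hc0).1]
      norm_num
    · classical
      by_cases hd : d ∈ Lst C Y ρ
      · exact T.nop_zero H hc.1 hc0 (fun e => h ⟨hd, e⟩) _
      · rw [Nop, if_neg hd]
  have hT : Top' C Y ρ c s f = f + fun r => s * Nop C Y ρ c f r := rfl
  funext d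
  show Top' C Y ρ c s f d + s * Nop C Y ρ c (Top' C Y ρ c s f) d = f d
  rw [hT, T.nop_add H, Pi.add_apply, Pi.add_apply, T.nop_smul H, hN, mul_zero, add_zero, add_assoc,
    CharTwo.add_self_eq_zero, add_zero]

/-- Conjugation by a root element, on coordinates. -/
theorem mo_conj {c : ℕ} (hc : Perp C Y c) (hc0 : ip C c ρ = 0) (s : F) {g : GL D.Idx F}
    (hg : g ∈ spanGroup D F (Rad C Y ρ)) :
    C.xu c s * g * C.xu c s ∈ spanGroup D F (Rad C Y ρ) ∧
      ∀ f, Mo C Y ρ g f → Mo C Y ρ (C.xu c s * g * C.xu c s) (Top' C Y ρ c s f) := by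
  have hfin : ∀ {g : GL D.Idx F} {f : ℕ → F}, g ∈ spanGroup D F (Rad C Y ρ) → Mo C Y ρ g f →
      ∀ f', Mo C Y ρ g f' → f' = f := fun _ h f' h' => T.mo_uniq H h' h
  suffices key : C.xu c s * g * C.xu c s ∈ spanGroup D F (Rad C Y ρ) ∧
      ∃ f, Mo C Y ρ g f ∧ Mo C Y ρ (C.xu c s * g * C.xu c s) (Top' C Y ρ c s f) by
    obtain ⟨h1, f, hf, hf'⟩ := key
    exact ⟨h1, fun f0 h0 => hfin hg hf f0 h0 ▸ hf'⟩
  have htop0 : Top' C Y ρ c s (0 : ℕ → F) = 0 := by
    classical
    funext d; simp [Top', Nop]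
  induction hg using Subgroup.closure_induction with
  | mem x hx =>
    obtain ⟨a, t, ha, e⟩ := hx
    rw [C.eq_xu.mp e]
    by_cases he : a = ρ
    · subst he
      have hcm : C.xu c s * C.xu a t * C.xu c s = C.xu a t := by
        rw [(H.commute_orth hc.1 (T.rho_lt H) hc0 s t).eq, mul_assoc, SL.sq_one H, mul_one]
      rw [hcm]
      exact ⟨C.xu_mem_span ha t, 0, T.mo_rho H t, by rw [htop0]; exact T.mo_rho H t⟩
    · have haL := (T.mem_L H).2 ⟨ha, he⟩
      by_cases hac : ip C a c = -1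
      · obtain ⟨d, hd⟩ := H.exists_sum ha.1.1 hc.1 hac
        rw [H.conj_sum hc.1 ha.1.1 hd hac s t]
        have hdL : d ∈ Lst C Y ρ := T.mem_of_grade H (perp_sum hd ha.1 hc) (by rw [hd.ip_eq, T.grade H haL, hc0]; norm_num)
        refine ⟨mul_mem (C.xu_mem_span ha t) (C.xu_mem_span ((T.mem_L H).1 hdL).1 _), _, T.mo_single H haL t, ?_⟩
        have e1 : Top' C Y ρ c s (fun r => if r = a then t else 0) =
            (fun r => if r = a then t else 0) + (fun r => if r = d then s * t else 0) := by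
          classical
          funext r
          simp only [Top', Pi.add_apply]
          congr 1
          by_cases hr : r = d
          · subst hr; rw [T.nop_eq H haL hdL hd, if_pos rfl, if_pos rfl]
          · rw [if_neg hr, Nop]
            split_ifs with hrL
            · rw [Finset.sum_eq_zero, mul_zero]
              intro b _
              split_ifs with h1 h2
              · exact absurd (h2 ▸ h1 |>.unique hd) hr
              · rfl
              · rfl
            · rw [mul_zero]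
        rw [e1]
        exact T.mo_mul H (T.mo_single H haL t) (T.mo_single H hdL _)
      · have hne : a ≠ D.neg c := fun e => by
          have := T.grade H haL
          rw [e, ip_neg hc.1, hc0] at this
          omega
        have hcm : C.xu c s * C.xu a t * C.xu c s = C.xu a t := by
          rw [(H.commute hc.1 ha.1.1 hne (by rw [H.symm c hc.1 a ha.1.1]; exact hac) s t).eq, mul_assoc,
            SL.sq_one H, mul_one]
        rw [hcm]
        refine ⟨C.xu_mem_span ha t, _, T.mo_single H haL t, ?_⟩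
        have e1 : Top' C Y ρ c s (fun r => if r = a then t else 0) = fun r => if r = a then t else 0 := by
          classical
          funext r
          have hN : Nop C Y ρ c (fun r => if r = a then t else 0) r = 0 := by
            rw [Nop]
            split_ifs with hrL
            · refine Finset.sum_eq_zero fun b hb => ?_
              split_ifs with h1 h2
              · exact absurd (T.sum_ip H hc.1 (T.L_lt H haL) (h2 ▸ h1) (T.grade H hrL) hc0).1 hac
              · rfl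
              · rfl
            · rfl
          simp only [Top', hN, mul_zero, add_zero]
        rw [e1]
        exact T.mo_single H haL t
  | one =>
    rw [mul_one, SL.sq_one H]
    exact ⟨one_mem _, 0, T.mo_one H, by rw [htop0]; exact T.mo_one H⟩
  | mul x y _ _ ix iy =>
    obtain ⟨hx1, f, hf, hf'⟩ := ix
    obtain ⟨hy1, f2, hf2, hf2'⟩ := iy
    rw [show C.xu c s * (x * y) * C.xu c s = (C.xu c s * x * C.xu c s) * (C.xu c s * y * C.xu c s) by
      simp only [mul_assoc]; rw [← mul_assoc (C.xu c s) (C.xu c s), SL.sq_one H, one_mul]]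
    exact ⟨mul_mem hx1 hy1, f + f2, T.mo_mul H hf hf2, by rw [T.top_add H]; exact T.mo_mul H hf' hf2'⟩
  | inv x _ ix =>
    obtain ⟨hx1, f, hf, hf'⟩ := ix
    rw [show C.xu c s * x⁻¹ * C.xu c s = (C.xu c s * x * C.xu c s)⁻¹ by
      rw [mul_inv_rev, mul_inv_rev, SL.inv_self H, mul_assoc]]
    exact ⟨inv_mem hx1, f, T.mo_inv H hf, T.mo_inv H hf'⟩

end Top

end Cfsg.Agent.Suzuki.SLInv
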