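import Cfsg.Agent.Suzuki.SLInv.Cover
import Cfsg.Agent.Chev.Eval

/-! # Certified ranks of `g - 1` on the adjoint module, modulo two -/

set_option autoImplicit false
set_option linter.unusedSectionVars false

universe u

namespace Cfsg.Agent.Suzuki.SLInv

open Cfsg.Lie Cfsg.Agent.Chev
open scoped Matrix

/-- The bit vector of the odd entries. -/
def maskE : List Ent → ℕ
  | [] => 0
  | e :: L => bif Nat.beq (e.2.2.natAbs % 2) 0 then maskE L else Nat.xor (2 ^ e.1) (maskE L)

variable (T : FTab)

/-- A column of `W - 1` as a bit vector. -/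
noncomputable def colW (w : List ℕ) (c : ℕ) : ℕ :=
  Nat.xor (maskE (evalWord T.colT (fun _ => (0, 0)) (w.map fun r => (r, 1, 1, 0)) (startEnt c))) (2 ^ c)

/-- The sum of the vectors selected by the bits of `k`. -/
def comb : List ℕ → ℕ → ℕ
  | [], _ => 0
  | v :: V, k => bif Nat.beq (k % 2) 1 then Nat.xor v (comb V (k / 2)) else comb V (k / 2)

/-- The selected bits of a vector. -/
def gather : List ℕ → ℕ → ℕ
  | [], _ => 0
  | a :: R, v => Nat.shiftRight v a % 2 + 2 * gather R v

/-- The certificate of a rank. -/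
noncomputable def rankChk (w P V K R U : List ℕ) : Bool :=
  let N := T.l + T.n
  let r := P.length
  w.all (fun a => Nat.blt a T.n) && Nat.beq V.length r && Nat.beq R.length r && Nat.beq U.length r &&
    R.all (fun a => Nat.blt a N) && P.all (fun a => Nat.blt a N) &&
    allBelow (fun j => Nat.beq (colW T w (P.getD j 0)) (V.getD j 0)) r &&
    allBelow (fun c => Nat.beq (comb V (K.getD c 0)) (colW T w c)) N &&
    allBelow (fun j => Nat.beq (comb U (gather R (V.getD j 0))) (2 ^ j)) r

variable {T} {F : Type u} [Field F] [CharP F 2]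

/-- A bit in the field. -/
def bitF (F : Type u) [Field F] (v k : ℕ) : F := if v.testBit k then 1 else 0

theorem bitF_xor (a b k : ℕ) : bitF F (Nat.xor a b) k = bitF F a k + bitF F b k := by
  show bitF F (a ^^^ b) k = _
  simp only [bitF, Nat.testBit_xor]
  cases a.testBit k <;> cases b.testBit k <;> simp [CharTwo.add_self_eq_zero]

theorem symVal_mask (L : List Ent) (k : ℕ) : symVal (1 : F) 1 L k = bitF F (maskE L) k := by
  induction L with
  | nil => simp [symVal, maskE, bitF]
  | cons e L ih =>
    rw [symVal_cons, ih, maskE]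
    rcases Int.even_or_odd e.2.2 with h | h
    · have h2 : e.2.2.natAbs % 2 = 0 := Nat.even_iff.1 (Int.natAbs_even.2 h)
      have h0 : ((e.2.2 : ℤ) : F) = 0 := (CharP.intCast_eq_zero_iff F 2 _).mpr (even_iff_two_dvd.1 h)
      rw [beq_t h2, cond_true, h0, zero_mul, ite_self, zero_add]
    · have h2 : e.2.2.natAbs % 2 = 1 := Nat.odd_iff.1 (Int.natAbs_odd.2 h)
      have h1 : ((e.2.2 : ℤ) : F) = 1 := by
        obtain ⟨q, hq⟩ := h
        rw [hq]
        push_cast
        rw [CharTwo.two_eq_zero, zero_mul, zero_add]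
      rw [beq_f (by omega : e.2.2.natAbs % 2 ≠ 0), cond_false, bitF_xor, h1, one_mul]
      congr 1
      simp [bitF, mon, Nat.testBit_two_pow]

theorem bitF_comb : ∀ (V : List ℕ) (k x : ℕ),
    bitF F (comb V k) x = ∑ i : Fin V.length, bitF F k i.1 * bitF F (V.getD i.1 0) x := by
  intro V
  induction V with
  | nil => intro k x; simp [comb, bitF]
  | cons v V ih =>
    intro k x
    show bitF F (comb (v :: V) k) x = ∑ i : Fin (V.length + 1), bitF F k i.1 * bitF F ((v :: V).getD i.1 0) x
    rw [Fin.sum_univ_succ]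
    simp only [Fin.val_succ, Fin.val_zero, List.getD_cons_succ, List.getD_cons_zero]
    have hs : ∀ i, bitF F k (i + 1) = bitF F (k / 2) i := fun i => by simp [bitF, Nat.testBit_succ]
    simp only [hs, ← ih, comb]
    rcases Nat.mod_two_eq_zero_or_one k with h | h
    · have : bitF F k 0 = 0 := by simp [bitF, Nat.testBit_zero, h]
      rw [beq_f (by omega : k % 2 ≠ 1), cond_false, this, zero_mul, zero_add]
    · have : bitF F k 0 = 1 := by simp [bitF, Nat.testBit_zero, h]
      rw [beq_t h, cond_true, this, one_mul, bitF_xor]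

theorem bitF_gather : ∀ (R : List ℕ) (v i : ℕ), i < R.length → bitF F (gather R v) i = bitF F v (R.getD i 0) := by
  intro R
  induction R with
  | nil => intro v i h; simp at h
  | cons a R ih =>
    intro v i h
    have e : (Nat.shiftRight v a % 2 + 2 * gather R v) / 2 = gather R v := by omega
    cases i with
    | zero =>
      simp only [List.getD_cons_zero, gather, bitF, Nat.testBit_zero]
      congr 1
      show (decide ((v >>> a % 2 + 2 * gather R v) % 2 = 1) = true) = (v.testBit a = true)
      rw [Nat.testBit_eq_decide_div_mod_eq, Nat.shiftRight_eq_div_pow]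
      simp
    | succ i =>
      rw [List.getD_cons_succ, ← ih v i (by simpa using h), gather]
      simp only [bitF, Nat.testBit_succ, e]

variable {D : ChevalleyDatum} (H : AllOK D T)

theorem sub_one_apply {w : List ℕ} (hw : ∀ a ∈ w, a < D.nroots) (x y : D.Idx) :
    ((W H w : GL D.Idx F) : Matrix D.Idx D.Idx F) x y - (1 : Matrix D.Idx D.Idx F) x y =
      bitF F (colW T w (idxN D y)) (idxN D x) := by
  have e : ((W H w : GL D.Idx F) : Matrix D.Idx D.Idx F) =
      D.wordMat F (substWord (1 : F) 1 (w.map fun r => (r, 1, 1, 0))) := by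
    rw [W, Cert.coe_wu]
    congr 1
    simp [substWord, List.map_map, Function.comp_def, mon]
  rw [e, word_entry H.basic.colOK (nf := fun _ => (0, 0)) (fun k => by simp [mon])
    _ (by simpa using hw), symVal_mask, colW, bitF_xor, sub_eq_add_neg, CharTwo.neg_eq]
  congr 1
  rw [Matrix.one_apply]
  simp only [bitF, Nat.testBit_two_pow, decide_eq_true_eq]
  exact if_congr ⟨fun h => by rw [h], fun h => (idxN_inj D h).symm⟩ rfl rfl

/-- The rank is as certified. -/
theorem rank_eq {w P V K R U : List ℕ} (h : rankChk T w P V K R U = true) :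
    (((W H w : GL D.Idx F) : Matrix D.Idx D.Idx F) - 1).rank = P.length := by
  simp only [rankChk, Bool.and_eq_true, Nat.beq_eq, List.all_eq_true, Nat.blt_eq, allBelow_iff] at h
  obtain ⟨⟨⟨⟨⟨⟨⟨⟨hw, hV⟩, hR⟩, hU⟩, hRN⟩, hPN⟩, hcolP⟩, hcol⟩, hinv⟩ := h
  have hN : D.rank + D.nroots = T.l + T.n := by rw [H.basic.rank_eq, H.basic.nroots_eq]
  have hw' : ∀ a ∈ w, a < D.nroots := fun a ha => H.basic.nroots_eq ▸ hw a ha
  set Z : Matrix D.Idx D.Idx F := ((W H w : GL D.Idx F) : Matrix D.Idx D.Idx F) - 1
  have hZ : ∀ x y, Z x y = bitF F (colW T w (idxN D y)) (idxN D x) := fun x y => sub_one_apply H hw' x y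
  have pick : ∀ (L : List ℕ), (∀ a ∈ L, a < T.l + T.n) → L.length = P.length →
      ∃ f : Fin P.length → D.Idx, ∀ i, idxN D (f i) = L.getD i.1 0 := by
    intro L hL hlen
    have hi : ∀ i : Fin P.length, L.getD i.1 0 < D.rank + D.nroots := fun i => by
      rw [hN, List.getD_eq_getElem _ _ (i.2.trans_eq hlen.symm)]; exact hL _ (List.getElem_mem _)
    exact ⟨fun i => (exists_idxN D (hi i)).choose, fun i => (exists_idxN D (hi i)).choose_spec⟩
  obtain ⟨fP, hfP⟩ := pick P hPN rfl
  obtain ⟨fR, hfR⟩ := pick R hRN hR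
  set A : Matrix D.Idx (Fin P.length) F := fun x i => bitF F (V.getD i.1 0) (idxN D x)
  set B : Matrix (Fin P.length) D.Idx F := fun i y => bitF F (K.getD (idxN D y) 0) i.1
  have hAB : Z = A * B := by
    ext x y
    rw [hZ, ← hcol _ ((idxN_lt D y).trans_eq hN), bitF_comb, Matrix.mul_apply,
      ← (finCongr hV).sum_comp (fun i => A x i * B i y)]
    exact Finset.sum_congr rfl fun i _ => by simp [A, B, mul_comm]
  refine le_antisymm (by rw [hAB]; exact (Matrix.rank_mul_le_left _ _).trans ((Matrix.rank_le_card_width _).trans_eq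
    (Fintype.card_fin _))) ?_
  set M : Matrix (Fin P.length) (Fin P.length) F := fun k i => bitF F (U.getD i.1 0) k.1
  have hM : M * Z.submatrix fR fP = 1 := by
    ext k j
    have := congrArg (fun v => bitF F v k.1) (hinv j.1 j.2)
    simp only [bitF_comb] at this
    rw [Matrix.mul_apply, Matrix.one_apply, ← (finCongr hU).sum_comp]
    refine Eq.trans ?_ (this.trans ?_)
    · refine Finset.sum_congr rfl fun i _ => ?_
      have hi : i.1 < R.length := by rw [hR, ← hU]; exact i.2
      rw [bitF_gather R _ _ hi, Matrix.submatrix_apply, hZ, hfP, hfR, hcolP j.1 j.2]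
      simp [M, mul_comm]
    · simp only [bitF, Nat.testBit_two_pow, decide_eq_true_eq]
      exact if_congr ⟨fun e => (Fin.ext e).symm, fun e => by rw [e]⟩ rfl rfl
  calc P.length = (1 : Matrix (Fin P.length) (Fin P.length) F).rank := by rw [Matrix.rank_one, Fintype.card_fin]
    _ ≤ Z.rank := by
      rw [← hM]; exact (Matrix.rank_mul_le_right _ _).trans (Matrix.rank_submatrix_le _ _ _)

omit [CharP F 2] in
/-- Conjugate elements have the same rank of `g - 1`. -/
theorem rank_conj {g h : GL D.Idx F} (hc : Conj D g h) :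
    ((g : Matrix D.Idx D.Idx F) - 1).rank = ((h : Matrix D.Idx D.Idx F) - 1).rank := by
  have key : ∀ (k a b : GL D.Idx F), k * a * k⁻¹ = b →
      ((b : Matrix D.Idx D.Idx F) - 1).rank ≤ ((a : Matrix D.Idx D.Idx F) - 1).rank := by
    intro k a b e
    have : (b : Matrix D.Idx D.Idx F) - 1 =
        (k : Matrix D.Idx D.Idx F) * ((a : Matrix D.Idx D.Idx F) - 1) * (↑(k⁻¹) : Matrix D.Idx D.Idx F) := by
      rw [Matrix.mul_sub, Matrix.sub_mul, Matrix.mul_one, ← e, Units.val_mul, Units.val_mul, Units.mul_inv]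
    rw [this]
    exact (Matrix.rank_mul_le_left _ _).trans (Matrix.rank_mul_le_right _ _)
  obtain ⟨k, -, e⟩ := hc
  exact le_antisymm (key k⁻¹ h g (by rw [← e]; group)) (key k g h e)

theorem W_ne_one {w P V K R U : List ℕ} (h : rankChk T w P V K R U = true) (hP : P.length ≠ 0) :
    (W H w : GL D.Idx F) ≠ 1 := fun e => hP (by
  rw [← rank_eq (F := F) H h, e, Units.val_one, sub_self, Matrix.rank_zero])

variable (hS : okSL T = true)
include hS

theorem W_sq {reps : List (List ℕ)} (hR : okReps T reps = true) {S : List ℕ} (hm : S ∈ reps) :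
    (W H S : GL D.Idx F) * W H S = 1 := by
  obtain ⟨-, hc⟩ := rep_commute (F := F) H hS hR hm
  suffices ∀ v : List ℕ, v ⊆ S → (W H v : GL D.Idx F) * W H v = 1 from this S (List.Subset.refl _)
  intro v
  induction v with
  | nil => intro _; rw [W_nil, one_mul]
  | cons a v ih =>
    intro hv
    obtain ⟨ha, hv⟩ := List.cons_subset.1 hv
    have hcm : Commute ((AllOK.cert.{u} H).xu a (1 : F)) (W H v : GL D.Idx F) := by
      refine Commute.list_prod_right _ _ fun x hx => ?_
      simp only [List.map_map, List.mem_map] at hx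
      obtain ⟨b, hb, rfl⟩ := hx
      exact hc a ha b (hv hb)
    rw [W_cons, mul_assoc, ← mul_assoc (W H v : GL D.Idx F), ← hcm.eq, mul_assoc, ih hv, mul_one,
      SL.sq_one (sl_of_check H hS)]

theorem W_mem (w : List ℕ) : (W H w : GL D.Idx F) ∈ D.group F := by
  induction w with
  | nil => rw [W_nil]; exact one_mem _
  | cons a w ih => rw [W_cons]; exact mul_mem (Cert.xu_mem_group _ _ _) ih

end Cfsg.Agent.Suzuki.SLInv
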