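import Cfsg.Agent.Suzuki.SLInv.Main

/-! # The induction: every involution is conjugate to an orthogonal product -/

set_option autoImplicit false
set_option linter.unusedSectionVars false
set_option maxHeartbeats 1000000

universe u

namespace Cfsg.Agent.Suzuki.SLInv

open Cfsg.Lie Cfsg.Agent.Chev

variable {D : ChevalleyDatum} {C : Cert.{u} D} {F : Type u} [Field F] [CharP F 2] (H : SL C)
include H

omit [CharP F 2] in
theorem wu_comm_of {x : GL D.Idx F} {l : List (ℕ × F)} (h : ∀ p ∈ l, Commute x (C.xu p.1 p.2)) :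
    Commute x (C.wu l) := by
  refine Commute.list_prod_right _ _ fun y hy => ?_
  obtain ⟨p, hp, rfl⟩ := List.mem_map.1 hy
  exact h p hp

/-- An element commuting with the root elements of a set commutes with its span. -/
theorem commute_span {P : ℕ → Prop} {x : GL D.Idx F} (h : ∀ r, P r → ∀ t : F, Commute x (C.xu r t))
    {g : GL D.Idx F} (hg : g ∈ spanGroup D F P) : Commute x g := by
  have : spanGroup D F P ≤ Subgroup.centralizer {x} := C.span_le fun r hr t =>
    Subgroup.mem_centralizer_iff.2 fun y hy => by rw [Set.mem_singleton_iff.1 hy]; exact (h r hr t).eq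
  exact (Subgroup.mem_centralizer_iff.1 (this hg) x (Set.mem_singleton x))

theorem perp_commute {Y : List ℕ} {y : ℕ} (hy : y ∈ Y) (hyl : y < D.nroots) (t : F) {g : GL D.Idx F}
    (hg : g ∈ spanGroup D F (Perp C Y)) : Commute (C.xu y t) g :=
  commute_span H (fun r hr v => (H.commute_orth hr.1 hyl (hr.2 y hy) v t).symm) hg

theorem sq_of_orth {Y : List ℕ} {Z : List (ℕ × F)} (hZ : Orth C Y Z) : C.wu Z * C.wu Z = 1 := by
  obtain ⟨h1, h2⟩ := hZ
  induction Z with
  | nil => simp [Cert.wu]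
  | cons p Z ih =>
    obtain ⟨hp, hZ⟩ := List.forall_mem_cons.1 h1
    obtain ⟨hpz, hpw⟩ := List.pairwise_cons.1 h2
    have hc : Commute (C.xu p.1 p.2) (C.wu Z) := wu_comm_of H fun q hq =>
      H.commute_orth hp.1.1 (hZ q hq).1.1 (hpz q hq) _ _
    rw [C.wu_cons, hc.symm.mul_mul_mul_comm, SL.sq_one H, ih hZ hpw, one_mul]

variable {Y : List ℕ} {ρ : ℕ}

theorem Top.cons (T : Top C Y ρ) {a : ℕ} (h : ip C ρ a = 0) : Top C (Y ++ [a]) ρ :=
  ⟨⟨T.pos.1, fun y hy => by
    rcases List.mem_append.1 hy with hy | hy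
    · exact T.pos.2 y hy
    · rw [List.mem_singleton.1 hy]; exact h⟩,
   fun r hr => T.dom r ⟨hr.1, fun y hy => hr.2 y (List.mem_append_left _ hy)⟩⟩

/-- Conjugation by a word, on coordinates. -/
theorem mo_conjW (T : Top C Y ρ) : ∀ l : List (ℕ × F), (∀ p ∈ l, Perp C Y p.1 ∧ ip C p.1 ρ = 0) →
    ∀ g ∈ spanGroup D F (Rad C Y ρ), C.wu l * g * (C.wu l)⁻¹ ∈ spanGroup D F (Rad C Y ρ) ∧
      ∀ f, Mo C Y ρ g f → Mo C Y ρ (C.wu l * g * (C.wu l)⁻¹) (opW C Y ρ l f)
  | [], _, g, hg => by simpa [Cert.wu, opW] using hg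
  | p :: l, hl, g, hg => by
    obtain ⟨hp, hl⟩ := List.forall_mem_cons.1 hl
    obtain ⟨h1, h2⟩ := mo_conjW T l hl g hg
    obtain ⟨h3, h4⟩ := T.mo_conj H hp.1 hp.2 p.2 h1
    rw [show C.wu (p :: l) * g * (C.wu (p :: l))⁻¹ = C.xu p.1 p.2 * (C.wu l * g * (C.wu l)⁻¹) * C.xu p.1 p.2 by
      rw [C.wu_cons, mul_inv_rev, SL.inv_self H]; group]
    exact ⟨h3, fun f hf => h4 _ (h2 f hf)⟩

theorem opW_add (T : Top C Y ρ) : ∀ (l : List (ℕ × F)) (f g : ℕ → F),
    opW C Y ρ l (f + g) = opW C Y ρ l f + opW C Y ρ l g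
  | [], f, g => rfl
  | p :: l, f, g => by simp only [opW, opW_add T l, T.top_add H]

theorem opW_append : ∀ (l l' : List (ℕ × F)) (f : ℕ → F),
    opW C Y ρ (l ++ l') f = opW C Y ρ l (opW C Y ρ l' f)
  | [], _, _ => rfl
  | p :: l, l', f => by simp only [List.cons_append, opW, opW_append l l']

theorem opW_rev (T : Top C Y ρ) : ∀ (l : List (ℕ × F)), (∀ p ∈ l, Perp C Y p.1 ∧ ip C p.1 ρ = 0) →
    ∀ f : ℕ → F, opW C Y ρ l (opW C Y ρ l.reverse f) = f
  | [], _, f => rfl
  | p :: l, hl, f => by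
    obtain ⟨hp, hl⟩ := List.forall_mem_cons.1 hl
    rw [List.reverse_cons, opW_append H]
    simp only [opW]
    rw [opW_rev T l hl, T.top_sq H hp.1 hp.2]

theorem Top.top_off (T : Top C Y ρ) {c : ℕ} (s : F) {f : ℕ → F} {r : ℕ} (hr : r ∉ Lst C Y ρ) (hf : f r = 0) :
    Top' C Y ρ c s f r = 0 := by
  classical
  simp [Top', Nop, hr, hf]

theorem opW_supp (T : Top C Y ρ) {a : ℕ} (k : ℤ) : ∀ (l : List (ℕ × F)),
    (∀ p ∈ l, (Perp C Y p.1 ∧ ip C p.1 ρ = 0) ∧ ip C p.1 a = 0) →
    ∀ f : ℕ → F, (∀ r, f r ≠ 0 → r ∈ Lst C Y ρ ∧ ip C r a = k) →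
      ∀ r, opW C Y ρ l f r ≠ 0 → r ∈ Lst C Y ρ ∧ ip C r a = k
  | [], _, f, hf => hf
  | p :: l, hl, f, hf => by
    obtain ⟨hp, hl⟩ := List.forall_mem_cons.1 hl
    have ih := opW_supp T k l hl f hf
    intro r hr
    by_contra hc
    have h0 : opW C Y ρ l f r = 0 := by_contra fun h => hc (ih r h)
    refine hr ?_
    simp only [opW]
    by_cases hrL : r ∈ Lst C Y ρ
    · show _ + p.2 * Nop C Y ρ p.1 (opW C Y ρ l f) r = 0
      rw [h0, zero_add]
      by_cases h1 : ip C r p.1 = 1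
      · obtain ⟨b, hb, hs, e⟩ := T.nop_src H (F := F) hp.1.1 hp.1.2 hrL h1
        rw [e, show opW C Y ρ l f b = 0 from by_contra fun h => hc ⟨hrL, by
          rw [hs.ip_eq, (ih b h).2, hp.2, add_zero]⟩, mul_zero]
      · rw [T.nop_zero H hp.1.1.1 hp.1.2 h1, mul_zero]
    · exact T.top_off H _ hrL h0

open Classical in
/-- The part of given grade. -/
noncomputable def part (C : Cert.{u} D) (a : ℕ) (k : ℤ) (f : ℕ → F) : ℕ → F := fun r => if ip C r a = k then f r else 0

theorem part_op (T : Top C Y ρ) {a : ℕ} (l : List (ℕ × F))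
    (hl : ∀ p ∈ l, (Perp C Y p.1 ∧ ip C p.1 ρ = 0) ∧ ip C p.1 a = 0) (f : ℕ → F)
    (hf : ∀ r, r ∉ Lst C Y ρ → f r = 0) (r : ℕ) :
    opW C Y ρ l f r = opW C Y ρ l (part C a (ip C r a) f) r := by
  classical
  have hsplit : f = part C a (ip C r a) f + (fun x => if ip C x a = ip C r a then 0 else f x) := by
    funext x; simp only [part, Pi.add_apply]; split_ifs <;> simp
  conv_lhs => rw [hsplit, opW_add H T, Pi.add_apply]
  suffices opW C Y ρ l (fun x => if ip C x a = ip C r a then 0 else f x) r = 0 by rw [this, add_zero]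
  -- the remaining part has other grades
  have key : ∀ (l : List (ℕ × F)), (∀ p ∈ l, (Perp C Y p.1 ∧ ip C p.1 ρ = 0) ∧ ip C p.1 a = 0) →
      ∀ g : ℕ → F, (∀ x, g x ≠ 0 → ip C x a ≠ ip C r a) → ∀ x, opW C Y ρ l g x ≠ 0 → ip C x a ≠ ip C r a := by
    intro l
    induction l with
    | nil => intro _ g hg; exact hg
    | cons p l ih =>
      intro hl g hg x hx hxa
      obtain ⟨hp, hl⟩ := List.forall_mem_cons.1 hl
      have h0 : opW C Y ρ l g x = 0 := by_contra fun h => ih hl g hg x h hxa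
      refine hx ?_
      simp only [opW]
      by_cases hxL : x ∈ Lst C Y ρ
      · show _ + p.2 * Nop C Y ρ p.1 (opW C Y ρ l g) x = 0
        rw [h0, zero_add]
        by_cases h1 : ip C x p.1 = 1
        · obtain ⟨b, hb, hs, e⟩ := T.nop_src H (F := F) hp.1.1 hp.1.2 hxL h1
          rw [e, show opW C Y ρ l g b = 0 from by_contra fun h => ih hl g hg b h (by
            rw [← hxa, hs.ip_eq, hp.2, add_zero]), mul_zero]
        · rw [T.nop_zero H hp.1.1.1 hp.1.2 h1, mul_zero]
      · exact T.top_off H _ hxL h0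
  by_contra h
  exact key l hl _ (fun x hx e => hx (if_pos e)) r h rfl

/-- One orthogonal root element absorbs the part of the radical not orthogonal to it. -/
theorem absorb_step (T : Top C Y ρ) {a : ℕ} {t : F} (ht : t ≠ 0) {rem : List (ℕ × F)}
    (hZ : Orth C (Y ++ [ρ]) ((a, t) :: rem)) {q : GL D.Idx F} (hq : q ∈ spanGroup D F (Rad C Y ρ))
    (h2 : C.wu ((a, t) :: rem) * q * (C.wu ((a, t) :: rem) * q) = 1) :
    ∃ h ∈ spanGroup D F (Perp C Y), ∃ q' ∈ spanGroup D F (Rad C (Y ++ [a]) ρ),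
      h * (C.wu ((a, t) :: rem) * q) * h⁻¹ = C.wu ((a, t) :: rem) * q' := by
  classical
  obtain ⟨hpos, hpw⟩ := id hZ
  have hl : ∀ p ∈ (a, t) :: rem, Perp C Y p.1 ∧ ip C p.1 ρ = 0 := fun p hp =>
    ⟨⟨(hpos p hp).1.1, fun y hy => (hpos p hp).2 y (List.mem_append_left _ hy)⟩,
      (hpos p hp).2 ρ (List.mem_append_right _ (List.mem_singleton_self _))⟩
  obtain ⟨ha, hrem⟩ := List.forall_mem_cons.1 hl
  have hpa := (List.pairwise_cons.1 hpw).1
  have hlr : ∀ p ∈ rem, (Perp C Y p.1 ∧ ip C p.1 ρ = 0) ∧ ip C p.1 a = 0 := fun p hp =>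
    ⟨hrem p hp, by rw [H.symm _ (hrem p hp).1.1 a ha.1.1]; exact hpa p hp⟩
  set y := C.wu ((a, t) :: rem)
  have hy : y * y = 1 := sq_of_orth H hZ
  have hyi : y⁻¹ = y := inv_eq_of_mul_eq_one_right hy
  obtain ⟨f, hf⟩ := T.mo_of_mem H hq
  have hL0 := hf.1
  -- the kernel condition
  have ker : ∀ {q : GL D.Idx F} {f : ℕ → F}, q ∈ spanGroup D F (Rad C Y ρ) → Mo C Y ρ q f →
      y * q * (y * q) = 1 → opW C Y ρ ((a, t) :: rem) f + f = 0 := by
    intro q f hq hf h2
    have h1 := (mo_conjW H T _ hl q hq).2 f hf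
    have h3 := T.mo_mul H h1 hf
    have e : y * q * y⁻¹ * q = 1 := by rw [hyi]; simpa only [mul_assoc] using h2
    rw [show C.wu ((a, t) :: rem) = y from rfl, e] at h3
    exact T.mo_uniq H h3 (T.mo_one H)
  -- the correction
  set Yr := opW C Y ρ rem
  have hr : ∀ p ∈ rem.reverse, (Perp C Y p.1 ∧ ip C p.1 ρ = 0) ∧ ip C p.1 a = 0 := fun p hp =>
    hlr p (List.mem_reverse.1 hp)
  let v : ℕ → F := fun b => if hb : b ∈ Lst C Y ρ ∧ ip C b a = -1 then
    f (Classical.choose (H.exists_sum (T.L_lt H hb.1) ha.1.1 hb.2)) / t else 0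
  have hv : ∀ r, v r ≠ 0 → r ∈ Lst C Y ρ ∧ ip C r a = -1 := fun r hr => by
    by_contra hc; exact hr (dif_neg hc)
  set w := opW C Y ρ rem.reverse v
  have hw : ∀ r, w r ≠ 0 → r ∈ Lst C Y ρ ∧ ip C r a = -1 := opW_supp H T (-1) _ hr v hv
  have hwv : Yr w = v := opW_rev H T rem (fun p hp => hrem p hp) v
  set W := E C Y ρ w
  have hW : W ∈ spanGroup D F (Rad C Y ρ) := C.wu_mem_span _ fun p hp => by
    obtain ⟨r, hr, rfl⟩ := List.mem_map.1 hp
    exact ((T.mem_L H).1 hr).1
  have hWP : W ∈ spanGroup D F (Perp C Y) := C.span_mono (fun r hr => hr.1) hW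
  have hMW : Mo C Y ρ W w := ⟨fun r hr => by_contra fun h => hr (hw r h).1, 0, by rw [C.xu_zero, mul_one]⟩
  obtain ⟨hWy, hMy⟩ := mo_conjW H T _ hl W hW
  refine ⟨W, hWP, ?_⟩
  set q' := y * W * y⁻¹ * q * W⁻¹
  have hq' : q' ∈ spanGroup D F (Rad C Y ρ) := mul_mem (mul_mem hWy hq) (inv_mem hW)
  have he : W * (y * q) * W⁻¹ = y * q' := by
    simp only [q', hyi, ← mul_assoc, hy, one_mul]
  set f' := opW C Y ρ ((a, t) :: rem) w + f + w
  have hf' : Mo C Y ρ q' f' := T.mo_mul H (T.mo_mul H (hMy w hMW) hf) (T.mo_inv H hMW)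
  have h2' : y * q' * (y * q') = 1 := by
    rw [← he, show W * (y * q) * W⁻¹ * (W * (y * q) * W⁻¹) = W * (y * q * (y * q)) * W⁻¹ by group, h2, mul_one,
      mul_inv_cancel]
  have hk := ker hq' hf' h2'
  -- the positive part vanishes
  have hplus : ∀ r ∈ Lst C Y ρ, ip C r a = 1 → f' r = 0 := by
    intro r hrL hra
    obtain ⟨b, hb, hs, e⟩ := T.nop_src H (F := F) ha.1 ha.2 hrL hra
    have hba : ip C b a = -1 := (T.sum_ip H ha.1.1 (T.L_lt H hb) hs (T.grade H hrL) ha.2).1
    have hvb : v b = f r / t := by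
      show dite _ _ _ = _
      rw [dif_pos ⟨hb, hba⟩]
      congr 2
      exact (Classical.choose_spec (H.exists_sum (T.L_lt H hb) ha.1.1 hba)).unique hs
    have hwr : w r = 0 := by_contra fun h => by have := (hw r h).2; omega
    show Top' C Y ρ a t (Yr w) r + f r + w r = 0
    rw [hwv, hwr, add_zero]
    show v r + t * Nop C Y ρ a v r + f r = 0
    rw [e, hvb, mul_div_cancel₀ _ ht, show v r = 0 from by_contra fun h => by have := (hv r h).2; omega, zero_add]
    exact CharTwo.add_self_eq_zero _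
  -- hence the negative part
  have hminus : ∀ r ∈ Lst C Y ρ, ip C r a = -1 → f' r = 0 := by
    have hsupp := hf'.1
    have hYp : part C a (-1) (Yr (part C a (-1) f')) = 0 := by
      funext b
      simp only [part, Pi.zero_apply]
      split_ifs with hba
      · by_cases hbL : b ∈ Lst C Y ρ
        · obtain ⟨d, hd⟩ := H.exists_sum (T.L_lt H hbL) ha.1.1 hba
          have hdL : d ∈ Lst C Y ρ := T.mem_of_grade H (perp_sum hd ((T.mem_L H).1 hbL).1.1 ha.1)
            (by rw [hd.ip_eq, T.grade H hbL, ha.2]; norm_num)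
          have hda : ip C d a = 1 := by rw [hd.ip_eq, hba, H.self a ha.1.1]; norm_num
          have e0 := congrFun hk d
          simp only [Pi.add_apply, Pi.zero_apply, hplus d hdL hda, add_zero] at e0
          have e1 : Yr f' d = 0 := by
            rw [show Yr f' d = Yr (part C a (ip C d a) f') d from part_op H T rem hlr f' hsupp d, hda]
            have : part C a 1 f' = 0 := funext fun x => by
              simp only [part, Pi.zero_apply]
              split_ifs with hx
              · by_cases hxL : x ∈ Lst C Y ρ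
                · exact hplus x hxL hx
                · exact hsupp x hxL
              · rfl
            rw [this]
            exact by_contra fun h => by
              have := opW_supp H T (a := a) 7 rem hlr 0 (fun r h => absurd rfl h) d h
              omega
          rw [show opW C Y ρ ((a, t) :: rem) f' d = Yr f' d + t * Nop C Y ρ a (Yr f') d from rfl, e1, zero_add,
            T.nop_eq H hbL hdL hd] at e0
          show opW C Y ρ rem _ b = 0
          rw [← hba, ← part_op H T rem hlr f' hsupp b]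
          exact (mul_eq_zero.1 e0).resolve_left ht
        · exact by_contra fun h => hbL (opW_supp H T (a := a) (-1) rem hlr _ (fun x hx => ⟨by_contra fun hxL => hx (by
            simp [part, hsupp x hxL]), by_contra fun hxa => hx (if_neg hxa)⟩) b h).1
      · rfl
    intro r hrL hra
    have hP : ∀ x, part C a (-1) f' x ≠ 0 → x ∈ Lst C Y ρ ∧ ip C x a = -1 := fun x hx => ⟨by_contra fun hxL => hx (by
      simp [part, hsupp x hxL]), by_contra fun hxa => hx (if_neg hxa)⟩
    have hz : Yr (part C a (-1) f') = 0 := funext fun x => by_contra fun h => h (by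
      have := congrFun hYp x
      simpa [part, (opW_supp H T (-1) rem hlr _ hP x h).2] using this)
    have hrev : opW C Y ρ rem.reverse (Yr (part C a (-1) f')) = part C a (-1) f' := by
      have := opW_rev H T rem.reverse (fun p hp => (hr p hp).1) (part C a (-1) f')
      rwa [List.reverse_reverse] at this
    rw [hz] at hrev
    have h0 : opW C Y ρ rem.reverse (0 : ℕ → F) r = 0 := by_contra fun h => by
      have := opW_supp H T (a := a) 7 rem.reverse hr 0 (fun r h => absurd rfl h) r h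
      omega
    have := congrFun hrev r
    rw [h0] at this
    simpa [part, hra] using this.symm
  refine ⟨q', ?_, he⟩
  obtain ⟨h0, z, ez⟩ := hf'
  rw [ez]
  refine mul_mem (C.wu_mem_span' _ fun p hp hne => ?_) (C.xu_mem_span ⟨(Top.cons H T ?_).pos.perp, ?_⟩ z)
  · obtain ⟨r, hr, rfl⟩ := List.mem_map.1 hp
    have hr' := ((T.mem_L H).1 hr).1
    refine ⟨⟨hr'.1.1, fun y hy => ?_⟩, hr'.2⟩
    rcases List.mem_append.1 hy with hy | hy
    · exact hr'.1.2 y hy
    · rw [List.mem_singleton.1 hy]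
      show ip C r a = 0
      by_contra hra
      have hne' : a ≠ r := fun e => by
        have := T.grade H hr; rw [← e, ha.2] at this; omega
      have hnn : a ≠ D.neg r := fun e => by
        have := ha.2; rw [e, ip_neg (T.L_lt H hr), T.grade H hr] at this; omega
      have hb := H.bound r (T.L_lt H hr) a ha.1.1 hne' hnn
      rcases (by omega : ip C r a = 1 ∨ ip C r a = -1) with h | h
      · exact hne (hplus r hr h)
      · exact hne (hminus r hr h)
  · rw [H.symm ρ (T.rho_lt H) a ha.1.1]; exact ha.2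
  · rw [H.self ρ (T.rho_lt H)]; norm_num

end Cfsg.Agent.Suzuki.SLInv
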