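import Cfsg.Agent.Suzuki.SLInv.Check
import Cfsg.Agent.Chev.TwistWeyl

/-! # Checked rewriting of words in root elements with parameter one -/

set_option autoImplicit false
set_option linter.unusedSectionVars false

universe u

namespace Cfsg.Agent.Suzuki.SLInv

open Cfsg.Lie Cfsg.Agent.Chev

variable (T : FTab)

/-- The sum of two roots, read from the chain table. -/
noncomputable def sumT (a b : ℕ) : ℕ := T.slot a b % 256

/-- Insert a letter into a word. -/
noncomputable def ins : ℕ → ℕ → List ℕ → Option (List ℕ)
  | _, a, [] => some [a]
  | 0, _, _ :: _ => none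
  | fuel + 1, a, b :: rest =>
    if a = b then some rest
    else if T.n ≤ a || T.n ≤ b || b == T.neg a then none
    else if a < b then some (a :: b :: rest)
    else
      let r1 := if ipC T a b = 9 then ins fuel (sumT T a b) rest else some rest
      match r1 with
      | none => none
      | some r =>
        match ins fuel a r with
        | none => none
        | some [] => some [b]
        | some (x :: r') => if x ≤ b then ins fuel b (x :: r') else some (b :: x :: r')

/-- Normalise a word. -/
noncomputable def norm : List ℕ → Option (List ℕ)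
  | [] => some []
  | a :: w => match norm w with
    | none => none
    | some r => ins T 60 a r

/-- Conjugate a word by a letter. -/
noncomputable def conjL (c : ℕ) : List ℕ → Option (List ℕ)
  | [] => some []
  | a :: w =>
    if T.n ≤ a || T.n ≤ c || c == T.neg a then none
    else match conjL c w with
      | none => none
      | some r => if ipC T a c = 9 then some (a :: sumT T a c :: r) else some (a :: r)

/-- Conjugate by several letters, normalising. -/
noncomputable def conjS : List ℕ → List ℕ → Option (List ℕ)
  | [], w => some w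
  | c :: cs, w => match conjL T c w with
    | none => none
    | some r => match norm T r with
      | none => none
      | some r' => conjS cs r'

variable {T} {D : ChevalleyDatum} (H : AllOK D T) (hS : okSL T = true)

variable {F : Type u} [Field F] [CharP F 2]

/-- The element of a word. -/
noncomputable def W (H : AllOK D T) (w : List ℕ) : GL D.Idx F :=
  (AllOK.cert.{u} H).wu (w.map fun a => (a, (1 : F)))

theorem W_cons (a : ℕ) (w : List ℕ) : (W H (a :: w) : GL D.Idx F) = (AllOK.cert.{u} H).xu a 1 * W H w := by
  rw [W, List.map_cons, Cert.wu_cons]; rfl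

theorem W_nil : (W H [] : GL D.Idx F) = 1 := rfl

include hS

theorem ipC_of {a b : ℕ} (ha : a < D.nroots) (hb : b < D.nroots) (hn : b ≠ D.neg a) :
    ip (AllOK.cert.{u} H) a b = (ipC T a b : ℤ) - 10 := by
  refine ipC_eq H ha hb ?_
  have h := (allBelow_iff _ _).1 ((allBelow_iff _ _).1 hS a (H.basic.nroots_eq ▸ ha)) b (H.basic.nroots_eq ▸ hb)
  simp only [okPair] at h
  by_cases h1 : b = a
  · rw [beq_t h1, cond_true] at h; have := Nat.eq_of_beq_eq_true h; omega
  rw [beq_f h1, cond_false, beq_f (by rwa [← H.basic.neg_eq (H.basic.nroots_eq ▸ ha)]), cond_false] at h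
  simp only [Bool.and_eq_true, Nat.ble_eq] at h
  omega

/-- The rule for two letters, and the meaning of `sumT`. -/
theorem letters {a b : ℕ} (ha : a < D.nroots) (hb : b < D.nroots) (hn : b ≠ D.neg a) :
    (ipC T a b ≠ 9 → Commute ((AllOK.cert.{u} H).xu a (1 : F)) ((AllOK.cert.{u} H).xu b 1)) ∧
      (ipC T a b = 9 → (AllOK.cert.{u} H).xu b (1 : F) * (AllOK.cert.{u} H).xu a 1 * (AllOK.cert.{u} H).xu b 1 =
          (AllOK.cert.{u} H).xu a 1 * (AllOK.cert.{u} H).xu (sumT T a b) 1 ∧
        (AllOK.cert.{u} H).xu a (1 : F) * (AllOK.cert.{u} H).xu b 1 =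
          (AllOK.cert.{u} H).xu b 1 * (AllOK.cert.{u} H).xu a 1 * (AllOK.cert.{u} H).xu (sumT T a b) 1) := by
  set C := AllOK.cert.{u} H
  have S : SL C := sl_of_check H hS
  have e : ip C a b = (ipC T a b : ℤ) - 10 := ipC_of H hS ha hb hn
  refine ⟨fun h => S.commute ha hb hn (by omega) 1 1, fun h => ?_⟩
  have h' : ip C a b = -1 := by omega
  obtain ⟨c, k, ek, -⟩ := S.comm1 a ha b hb h'
  have hm : (c, k, 1, 1) ∈ D.commTerms a b := ek ▸ List.mem_singleton_self _
  have hc : IsSum C a b c := ⟨C.commTerms_lt ha hb _ hm, fun j hj => by
    have := (C.commTerms_coef ha hb _ hm).2.2 j hj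
    simpa using this⟩
  have hn' := H.basic.nroots_eq
  have hck : D.chainRoot a b 1 = some c := by
    simp only [ChevalleyDatum.commTerms, List.mem_filterMap, List.mem_cons, List.not_mem_nil, or_false] at hm
    obtain ⟨z, hz, hzc⟩ := hm
    rcases hz with rfl | rfl | rfl | rfl | rfl | rfl | rfl <;>
      simp [Option.map_eq_some_iff, Option.bind_eq_some_iff] at hzc
    exact hzc.1
  have hcs : c = sumT T a b := by
    rw [ChevalleyDatum.chainRoot, H.basic.chainEntry_eq (hn' ▸ ha) (hn' ▸ hb), decode_getElem? _ _ _ (by norm_num)] at hck
    simp only [Nat.sub_self, pow_zero, Nat.div_one] at hck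
    split_ifs at hck with h0
    · simp at hck
    simp only [Option.map_some, Option.some.injEq] at hck
    rw [← hck]; rfl
  subst hcs
  have h'' : ip C b a = -1 := by rw [S.symm b hb a ha, h']
  have r := S.conj_sum hb ha hc h' (1 : F) 1
  rw [one_mul] at r
  refine ⟨r, ?_⟩
  have e2 : C.xu a (1 : F) * C.xu (sumT T a b) 1 = C.xu (sumT T a b) 1 * C.xu a 1 := by
    refine (S.commute ha hc.1 ?_ ?_ 1 1).eq
    · refine S.ne_of_ip ha ?_
      rw [S.symm a ha _ hc.1, hc.ip_eq, S.self a ha, h'']; norm_num
    · rw [S.symm a ha _ hc.1, hc.ip_eq, S.self a ha, h'']; norm_num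
  calc C.xu a (1 : F) * C.xu b 1 = C.xu b 1 * (C.xu b 1 * C.xu a 1 * C.xu b 1) := by
        rw [mul_assoc, ← mul_assoc (C.xu b 1) (C.xu b 1), SL.sq_one S, one_mul]
    _ = _ := by rw [r, ← mul_assoc]

theorem ins_sound : ∀ (fuel a : ℕ) (w r : List ℕ), ins T fuel a w = some r →
    (W H r : GL D.Idx F) = (AllOK.cert.{u} H).xu a 1 * W H w := by
  intro fuel
  induction fuel with
  | zero =>
    intro a w r h
    cases w with
    | nil => rw [show r = [a] from (Option.some.inj h).symm]; exact W_cons H a []
    | cons b rest => simp [ins] at h
  | succ fuel ih =>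
    intro a w r h
    cases w with
    | nil => rw [show r = [a] from (Option.some.inj h).symm]; exact W_cons H a []
    | cons b rest =>
      have hn' := H.basic.nroots_eq
      set C := AllOK.cert.{u} H
      simp only [ins] at h
      by_cases h1 : a = b
      · rw [if_pos h1] at h
        simp only [Option.some.injEq] at h
        subst h1 h
        rw [W_cons H, ← mul_assoc, Cert.xu_add, CharTwo.add_self_eq_zero, Cert.xu_zero, one_mul]
      rw [if_neg h1] at h
      by_cases h2 : (decide (T.n ≤ a) || decide (T.n ≤ b) || b == T.neg a) = true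
      · rw [if_pos h2] at h; simp at h
      rw [if_neg h2] at h
      by_cases h3 : a < b
      · rw [if_pos h3] at h
        simp only [Option.some.injEq] at h
        rw [← h]; exact W_cons H a _
      rw [if_neg h3] at h
      · simp only [Bool.or_eq_true, decide_eq_true_eq, beq_iff_eq, not_or, not_le] at h2
        obtain ⟨⟨ha', hb'⟩, hneg⟩ := h2
        have ha : a < D.nroots := hn' ▸ ha'
        have hb : b < D.nroots := hn' ▸ hb'
        obtain ⟨hc, hs⟩ := letters (F := F) H hS ha hb (by rwa [H.basic.neg_eq ha'])
        have key : ∀ r1, (if ipC T a b = 9 then ins T fuel (sumT T a b) rest else some rest) = some r1 →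
            C.xu a (1 : F) * W H (b :: rest) = C.xu b 1 * (C.xu a 1 * W H r1) := by
          intro r1 hr1
          split_ifs at hr1 with h9
          · rw [ih _ _ _ hr1, W_cons H, ← mul_assoc, (hs h9).2]; simp only [mul_assoc]; rfl
          · rw [← Option.some.inj hr1, W_cons H, ← mul_assoc, (hc h9).eq, mul_assoc]
        generalize hr1 : (if ipC T a b = 9 then ins T fuel (sumT T a b) rest else some rest) = o at h
        cases o with
        | none => simp at h
        | some r1 =>
          simp only at h
          generalize hr2 : ins T fuel a r1 = o2 at h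
          cases o2 with
          | none => simp at h
          | some r2 =>
            rw [key r1 hr1, ← ih _ _ _ hr2]
            cases r2 with
            | nil => simp only [Option.some.injEq] at h; rw [← h]; exact W_cons H b []
            | cons x r' =>
              simp only at h
              split_ifs at h with h4
              · exact ih _ _ _ h
              · simp only [Option.some.injEq] at h; rw [← h]; exact W_cons H b _

theorem norm_sound : ∀ (w r : List ℕ), norm T w = some r → (W H r : GL D.Idx F) = W H w := by
  intro w
  induction w with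
  | nil => intro r h; rw [show r = [] from (Option.some.inj h).symm]
  | cons a w ih =>
    intro r h
    rw [norm] at h
    generalize hw : norm T w = o at h
    cases o with
    | none => simp at h
    | some r' => rw [W_cons H a w, ← ih r' hw, ins_sound (F := F) H hS 60 a r' r h]

theorem conjL_sound {c : ℕ} : ∀ (w r : List ℕ), conjL T c w = some r →
    (W H r : GL D.Idx F) = (AllOK.cert.{u} H).xu c 1 * W H w * (AllOK.cert.{u} H).xu c 1 := by
  intro w
  set C := AllOK.cert.{u} H
  have S : SL C := sl_of_check H hS
  induction w with
  | nil => intro r h; rw [show r = [] from (Option.some.inj h).symm, W_nil, mul_one, SL.sq_one S]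
  | cons a w ih =>
    intro r h
    simp only [conjL] at h
    by_cases h2 : (decide (T.n ≤ a) || decide (T.n ≤ c) || c == T.neg a) = true
    · rw [if_pos h2] at h; simp at h
    rw [if_neg h2] at h
    simp only [Bool.or_eq_true, decide_eq_true_eq, beq_iff_eq, not_or, not_le] at h2
    obtain ⟨⟨ha', hc'⟩, hneg⟩ := h2
    have hn' := H.basic.nroots_eq
    obtain ⟨hcm, hs⟩ := letters (F := F) H hS (hn' ▸ ha') (hn' ▸ hc') (by rwa [H.basic.neg_eq ha'])
    generalize hw : conjL T c w = o at h
    cases o with
    | none => simp at h
    | some r' =>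
      have ih' := ih r' hw
      have e : C.xu c (1 : F) * W H (a :: w) * C.xu c 1 =
          C.xu c 1 * C.xu a 1 * C.xu c 1 * (C.xu c 1 * W H w * C.xu c 1) := by
        rw [W_cons H]
        simp only [mul_assoc]
        rw [← mul_assoc (C.xu c 1) (C.xu c 1), SL.sq_one S, one_mul]
      rw [e, ← ih']
      simp only at h
      split_ifs at h with h9 <;> simp only [Option.some.injEq] at h <;> subst h
      · rw [(hs h9).1, W_cons H, W_cons H, mul_assoc]
      · rw [← (hcm h9).eq, mul_assoc (C.xu a 1), SL.sq_one S, mul_one, W_cons H]

theorem conjS_sound : ∀ (cs w r : List ℕ), conjS T cs w = some r →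
    ∃ k ∈ D.group F, k * W H w * k⁻¹ = (W H r : GL D.Idx F) := by
  intro cs
  induction cs with
  | nil => intro w r h; exact ⟨1, one_mem _, by rw [show r = w from (Option.some.inj h).symm]; group⟩
  | cons c cs ih =>
    intro w r h
    simp only [conjS] at h
    generalize h1 : conjL T c w = o at h
    cases o with
    | none => simp at h
    | some r1 =>
      simp only at h
      generalize h2 : norm T r1 = o2 at h
      cases o2 with
      | none => simp at h
      | some r2 =>
        obtain ⟨k, hk, e⟩ := ih r2 r h
        rw [norm_sound (F := F) H hS r1 r2 h2, conjL_sound (F := F) H hS w r1 h1] at e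
        refine ⟨k * (AllOK.cert.{u} H).xu c 1, mul_mem hk (Cert.xu_mem_group _ _ _), ?_⟩
        rw [← e, mul_inv_rev, SL.inv_self (sl_of_check H hS)]
        group

end Cfsg.Agent.Suzuki.SLInv
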